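import Mathlib
import Cfsg.Agent.S0501

/-!
# A central four-group in a Sylow subgroup without normal elementary subgroups of order eight

`loc` is what constraint of the centralisers of the involutions of `U` supplies (see `Derive`).
-/

set_option autoImplicit false
set_option linter.unusedSectionVars false

namespace CfsgLib.NoEightConstrained.CentralFour

open Subgroup
open scoped commutatorElement

universe u

variable {G : Type u} [Group G]

/-- What is used of the centraliser of the involution `w` of `U`: its odd core `K` and a Sylow subgroup `Q` of the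
preimage of the two-core. -/
structure Core (S : Sylow 2 G) (U : Subgroup G) (w : G) (K Q : Subgroup G) : Prop where
  odd : Odd (Nat.card K)
  norm : ∀ g, g * w = w * g → ∀ k ∈ K, g * k * g⁻¹ ∈ K
  le : Q ≤ (S : Subgroup G)
  norm_S : ∀ s ∈ (S : Subgroup G), ∀ q ∈ Q, s * q * s⁻¹ ∈ Q
  U_le : U ≤ Q
  self : ∀ x ∈ (S : Subgroup G), (∀ q ∈ Q, x * q = q * x) → x ∈ Q
  factor : ∀ g, g * w = w * g → ∃ k ∈ K, ∃ n, n * w = w * n ∧ (∀ q ∈ Q, n * q * n⁻¹ ∈ Q) ∧ g = k * n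
  fix : ∀ n, n * w = w * n → (∀ q ∈ Q, n * q * n⁻¹ ∈ Q) → ∀ v ∈ U, n * v = v * n
  radical : ∀ H : Subgroup G, (∀ g ∈ H, g * w = w * g ∧ ∀ q ∈ Q, g * q * g⁻¹ ∈ Q) →
    (∀ n, n * w = w * n → (∀ q ∈ Q, n * q * n⁻¹ ∈ Q) → ∀ g ∈ H, n * g * n⁻¹ ∈ H) →
    (∀ g ∈ H, Odd (orderOf g) → ∀ q ∈ Q, g * q = q * g) → ∀ t ∈ (S : Subgroup G), t ∈ H → t ∈ Q

/-- Constraint at `w`. -/
def Local (S : Sylow 2 G) (U : Subgroup G) (w : G) : Prop := ∃ K Q : Subgroup G, Core S U w K Q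

/-- The hypotheses. -/
structure Hyp (S : Sylow 2 G) (U : Subgroup G) : Prop where
  le : U ≤ (S : Subgroup G)
  card : Nat.card U = 4
  sq : ∀ v ∈ U, v * v = 1
  central : ∀ v ∈ U, ∀ s ∈ (S : Subgroup G), v * s = s * v
  rank : ∀ A : Subgroup G, A ≤ (S : Subgroup G) → (S : Subgroup G) ≤ normalizer (A : Set G) →
    (∀ x ∈ A, ∀ y ∈ A, x * y = y * x) → (∀ x ∈ A, x * x = 1) → Nat.card A ≤ 4
  loc : ∀ w ∈ U, w ≠ 1 → Local S U w

theorem inv_of_sq {x : G} (h : x * x = 1) : x⁻¹ = x := inv_eq_of_mul_eq_one_right h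

theorem comm_of_sq {A : Subgroup G} (h : ∀ x ∈ A, x * x = 1) {x y : G} (hx : x ∈ A) (hy : y ∈ A) :
    x * y = y * x := by
  have h1 := inv_of_sq (h _ (A.mul_mem hx hy))
  rw [_root_.mul_inv_rev, inv_of_sq (h x hx), inv_of_sq (h y hy)] at h1
  exact h1.symm

/-- The product of two commuting subgroups. -/
def prodSub (A B : Subgroup G) (h : ∀ a ∈ A, ∀ b ∈ B, a * b = b * a) : Subgroup G where
  carrier := {x | ∃ a ∈ A, ∃ b ∈ B, x = a * b}
  one_mem' := ⟨1, A.one_mem, 1, B.one_mem, (one_mul 1).symm⟩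
  mul_mem' := by
    rintro _ _ ⟨a, ha, b, hb, rfl⟩ ⟨a', ha', b', hb', rfl⟩
    refine ⟨a * a', A.mul_mem ha ha', b * b', B.mul_mem hb hb', ?_⟩
    exact (show Commute b a' from (h a' ha' b hb).symm).mul_mul_mul_comm a b'
  inv_mem' := by
    rintro _ ⟨a, ha, b, hb, rfl⟩
    refine ⟨a⁻¹, A.inv_mem ha, b⁻¹, B.inv_mem hb, ?_⟩
    rw [h a ha b hb, _root_.mul_inv_rev]

theorem mem_prodSub {A B : Subgroup G} {h : ∀ a ∈ A, ∀ b ∈ B, a * b = b * a} {x : G} :
    x ∈ prodSub A B h ↔ ∃ a ∈ A, ∃ b ∈ B, x = a * b := Iff.rfl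

theorem left_le_prodSub {A B : Subgroup G} {h : ∀ a ∈ A, ∀ b ∈ B, a * b = b * a} : A ≤ prodSub A B h :=
  fun a ha => ⟨a, ha, 1, B.one_mem, (mul_one a).symm⟩

theorem right_le_prodSub {A B : Subgroup G} {h : ∀ a ∈ A, ∀ b ∈ B, a * b = b * a} : B ≤ prodSub A B h :=
  fun b hb => ⟨1, A.one_mem, b, hb, (one_mul b).symm⟩

theorem prodSub_sq {A B : Subgroup G} {h : ∀ a ∈ A, ∀ b ∈ B, a * b = b * a} (hA : ∀ a ∈ A, a * a = 1)
    (hB : ∀ b ∈ B, b * b = 1) : ∀ x ∈ prodSub A B h, x * x = 1 := by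
  rintro _ ⟨a, ha, b, hb, rfl⟩
  rw [(show Commute b a from (h a ha b hb).symm).mul_mul_mul_comm a b, hA a ha, hB b hb, one_mul]

theorem card_prodSub [Finite G] {A B : Subgroup G} {h : ∀ a ∈ A, ∀ b ∈ B, a * b = b * a}
    (hd : ∀ x ∈ A, x ∈ B → x = 1) : Nat.card (prodSub A B h) = Nat.card A * Nat.card B := by
  rw [← Nat.card_prod]
  refine (Nat.card_congr (Equiv.ofBijective
    (fun q : A × B => (⟨q.1.1 * q.2.1, _, q.1.2, _, q.2.2, rfl⟩ : prodSub A B h)) ⟨?_, ?_⟩)).symm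
  · rintro ⟨⟨a, ha⟩, ⟨b, hb⟩⟩ ⟨⟨a', ha'⟩, ⟨b', hb'⟩⟩ e
    have e' : a * b = a' * b' := congrArg Subtype.val e
    have h1 : a'⁻¹ * a = b' * b⁻¹ := by
      rw [eq_mul_inv_iff_mul_eq, mul_assoc, e', inv_mul_cancel_left]
    have h2 := hd _ (A.mul_mem (A.inv_mem ha') ha) (h1 ▸ B.mul_mem hb' (B.inv_mem hb))
    rw [inv_mul_eq_one] at h2
    subst h2
    exact Prod.ext rfl (Subtype.ext (mul_left_cancel e'))
  · rintro ⟨_, a, ha, b, hb, rfl⟩
    exact ⟨(⟨a, ha⟩, ⟨b, hb⟩), rfl⟩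

variable [Finite G] {S : Sylow 2 G} {U : Subgroup G}

theorem eq_one_of_odd {x : G} {K : Subgroup G} (hK : Odd (Nat.card K)) (hxK : x ∈ K)
    (hxS : x ∈ (S : Subgroup G)) : x = 1 := by
  obtain ⟨k, hk⟩ := S.2 ⟨x, hxS⟩
  have hk' : x ^ 2 ^ k = 1 := congrArg Subtype.val hk
  have h1 : x ^ Nat.card K = 1 := congrArg Subtype.val (pow_card_eq_one' (x := (⟨x, hxK⟩ : K)))
  have h2 := pow_gcd_eq_one.2 ⟨hk', h1⟩
  rwa [Nat.Coprime.pow_left k (Nat.coprime_two_left.2 hK), pow_one] at h2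

/-- A two-subgroup of a subgroup containing `S` is moved into `S`. -/
theorem conj_into {H P : Subgroup G} (hSH : (S : Subgroup G) ≤ H) (hP : IsPGroup 2 P) (hPH : P ≤ H) :
    ∃ c ∈ H, ∀ x ∈ P, c * x * c⁻¹ ∈ (S : Subgroup G) := by
  haveI : Fact (Nat.Prime 2) := ⟨Nat.prime_two⟩
  obtain ⟨Q, hQ⟩ := (hP.comap_subtype (K := H)).exists_le_sylow
  obtain ⟨c, hc⟩ := MulAction.exists_smul_eq H Q (S.subtype hSH)
  refine ⟨c, c.2, fun x hx => ?_⟩
  have h1 : c * ⟨x, hPH hx⟩ * c⁻¹ ∈ ((S.subtype hSH : Sylow 2 H) : Subgroup H) := by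
    rw [← hc, Sylow.coe_subgroup_smul]
    exact Subgroup.smul_mem_pointwise_smul (⟨x, hPH hx⟩ : H) (MulAut.conj c) _ (hQ hx)
  exact h1

theorem Core.central {w : G} {K Q : Subgroup G} (hC : Core S U w K Q) (hU : ∀ v ∈ U, v * w = w * v) {g : G}
    (hg : g * w = w * g) {v : G} (hv : v ∈ U) : ⁅v, g⁆ ∈ K := by
  obtain ⟨k, hk, n, hnw, hnQ, rfl⟩ := hC.factor g hg
  have hn := hC.fix n hnw hnQ v hv
  have e : ⁅v, k * n⁆ = v * k * v⁻¹ * k⁻¹ := by
    calc ⁅v, k * n⁆ = v * k * (n * v⁻¹ * n⁻¹) * k⁻¹ := by simp only [commutatorElement_def]; group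
      _ = v * k * v⁻¹ * k⁻¹ := by
        rw [(show Commute n v⁻¹ from (show Commute n v from hn).inv_right).eq, mul_inv_cancel_right]
  rw [e]
  exact mul_mem (hC.norm v (hU v hv) k hk) (inv_mem hk)

theorem Hyp.inter_eq (h : Hyp S U) {x : G} (hx : x ∈ (S : Subgroup G)) (hx2 : x * x = 1)
    (hc : ∀ s ∈ (S : Subgroup G), x * s = s * x) : x ∈ U := by
  by_contra hxU
  let C : Subgroup G := zpowers x
  have hC : ∀ a ∈ C, a = 1 ∨ a = x := by
    rintro _ ⟨i, rfl⟩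
    rcases Int.even_or_odd i with ⟨j, rfl⟩ | ⟨j, rfl⟩
    · left; show x ^ (j + j) = 1; rw [zpow_add, ← (Commute.refl x).mul_zpow, hx2, one_zpow]
    · right; show x ^ (2 * j + 1) = x; rw [zpow_add, two_mul, zpow_add, ← (Commute.refl x).mul_zpow, hx2, one_zpow,
        one_mul, zpow_one]
  have hcomm : ∀ a ∈ U, ∀ b ∈ C, a * b = b * a := fun a ha b hb => by
    rcases hC b hb with rfl | rfl
    · rw [mul_one, one_mul]
    · exact h.central a ha b hx
  set A := prodSub U C hcomm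
  have hAS : A ≤ (S : Subgroup G) := by
    rintro _ ⟨a, ha, b, hb, rfl⟩
    exact mul_mem (h.le ha) ((zpowers_le.2 hx : C ≤ (S : Subgroup G)) hb)
  have hAc : ∀ a ∈ A, ∀ s ∈ (S : Subgroup G), a * s = s * a := by
    rintro _ ⟨a, ha, b, hb, rfl⟩ s hs
    rcases hC b hb with rfl | rfl
    · rw [mul_one]; exact h.central a ha s hs
    · exact (show Commute (a * b) s from (show Commute a s from h.central a ha s hs).mul_left (hc s hs)).eq
  have hle := h.rank A hAS (fun s hs => mem_normalizer_iff.2 fun a => ⟨fun ha => by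
      rwa [← hAc a ha s hs, mul_inv_cancel_right], fun ha => by
      have h1 := hAc _ ha s hs
      rw [inv_mul_cancel_right] at h1
      rwa [← mul_left_cancel h1] at ha⟩)
    (fun a ha b hb => hAc a ha b (hAS hb))
    (prodSub_sq h.sq fun b hb => by rcases hC b hb with rfl | rfl <;> first | exact one_mul 1 | exact hx2)
  have h2 : Nat.card C = 2 := by
    rw [Nat.card_zpowers]
    exact orderOf_eq_prime (by rw [pow_two]; exact hx2) fun e => hxU (e ▸ U.one_mem)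
  rw [card_prodSub fun a ha hb => (hC a hb).resolve_right fun e => hxU (e ▸ ha), h.card, h2] at hle
  omega

/-- An element of `S` centralising one involution of a conjugate of `U` in `S` centralises all of it. -/
theorem Hyp.fix_all (h : Hyp S U) {g : G} (hg : ∀ v ∈ U, g * v * g⁻¹ ∈ (S : Subgroup G)) {w : G} (hw : w ∈ U)
    (hw1 : w ≠ 1) {s : G} (hs : s ∈ (S : Subgroup G)) (hsw : s * (g * w * g⁻¹) = g * w * g⁻¹ * s) :
    ∀ v ∈ U, g * v * g⁻¹ * s = s * (g * v * g⁻¹) := by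
  intro v hv
  obtain ⟨K, Q, hC⟩ := h.loc w hw hw1
  have hK := hC.odd
  have hcen : ∀ a : G, a * w = w * a → ∀ v ∈ U, ⁅v, a⁆ ∈ K := fun a ha v hv =>
    hC.central (fun x hx => h.central x hx w (h.le hw)) ha hv
  have h1 : g⁻¹ * s * g * w = w * (g⁻¹ * s * g) :=
    calc g⁻¹ * s * g * w = g⁻¹ * (s * (g * w * g⁻¹)) * g := by group
      _ = g⁻¹ * (g * w * g⁻¹ * s) * g := by rw [hsw]
      _ = w * (g⁻¹ * s * g) := by group
  have h2 := hcen _ h1 v hv
  have h3 : ⁅g * v * g⁻¹, s⁆ = g * ⁅v, g⁻¹ * s * g⁆ * g⁻¹ := by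
    simp only [commutatorElement_def]; group
  have h4 : ⁅g * v * g⁻¹, s⁆ = 1 := by
    refine eq_one_of_odd (S := S) (K := K.map (MulAut.conj g).toMonoidHom) ?_
      ⟨_, h2, h3.symm⟩ (mul_mem (mul_mem (mul_mem (hg v hv) hs) (inv_mem (hg v hv))) (inv_mem hs))
    rwa [Subgroup.card_map_of_injective (MulAut.conj g).injective]
  exact commutatorElement_eq_one_iff_mul_comm.1 h4

/-- A conjugate of `U` in `S` meeting `U` is `U`. -/
theorem Hyp.meet (h : Hyp S U) {g : G} (hg : ∀ v ∈ U, g * v * g⁻¹ ∈ (S : Subgroup G)) {w : G} (hw : w ∈ U)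
    (hw1 : w ≠ 1) (hwU : g * w * g⁻¹ ∈ U) {v : G} (hv : v ∈ U) : g * v * g⁻¹ ∈ U := by
  refine h.inter_eq (hg v hv) (by rw [show g * v * g⁻¹ * (g * v * g⁻¹) = g * (v * v) * g⁻¹ by group,
    h.sq v hv, mul_one, mul_inv_cancel]) fun s hs => ?_
  exact h.fix_all hg hw hw1 hs (h.central _ hwU s hs).symm v hv

/-- An elementary section of `S` has order at most sixteen. -/
theorem Hyp.section_le (h : Hyp S U) {H N : Subgroup G} (hHS : H ≤ (S : Subgroup G)) (hNH : N ≤ H)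
    (hn : ∀ a ∈ H, ∀ x ∈ N, a * x * a⁻¹ ∈ N) (hsq : ∀ a ∈ H, a * a ∈ N) :
    Nat.card H ≤ 16 * Nat.card N := by
  set P := (S : Subgroup G)
  have hsec := Cfsg.Agent.S0501.result (P := ↥P) S.2 fun A hA hAc hA2 => by
    rw [← card_map_of_injective (f := P.subtype) Subtype.coe_injective]
    refine h.rank _ (map_subtype_le A) (fun t ht => ?_) ?_ ?_
    · refine mem_normalizer_iff.2 fun x => ⟨?_, ?_⟩
      · rintro ⟨y, hy, rfl⟩
        exact ⟨⟨t, ht⟩ * y * ⟨t, ht⟩⁻¹, hA.conj_mem y hy ⟨t, ht⟩, rfl⟩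
      · rintro ⟨y, hy, e⟩
        refine ⟨⟨t, ht⟩⁻¹ * y * ⟨t, ht⟩, by simpa using hA.conj_mem y hy ⟨t, ht⟩⁻¹, ?_⟩
        show t⁻¹ * (y : G) * t = x
        rw [show (y : G) = t * x * t⁻¹ from e]; group
    · rintro _ ⟨x, hx, rfl⟩ _ ⟨y, hy, rfl⟩
      exact congrArg (fun z : A => ((z : ↥P) : G)) (mul_comm' (⟨x, hx⟩ : A) ⟨y, hy⟩)
    · rintro _ ⟨x, hx, rfl⟩
      have := hA2 x hx
      rw [pow_two] at this
      exact congrArg Subtype.val this
  let H' := H.subgroupOf P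
  let N' : Subgroup ↥H' := (N.subgroupOf P).subgroupOf H'
  haveI : N'.Normal := ⟨fun x hx a => hn _ a.2 _ hx⟩
  have hsq' : ∀ q : ↥H' ⧸ N', q * q = 1 := by
    rintro ⟨a⟩
    exact (QuotientGroup.eq_one_iff (a * a)).2 (hsq _ a.2)
  have hc : ∀ q r : ↥H' ⧸ N', q * r = r * q := fun q r => by
    have e : ∀ z : ↥H' ⧸ N', z⁻¹ = z := fun z => inv_eq_of_mul_eq_one_left (hsq' z)
    rw [← e (q * r), _root_.mul_inv_rev, e, e]
  have h16 := hsec H' N' ⊤ ⟨⟨fun q r => Subtype.ext (hc q r)⟩⟩ (fun q _ => by rw [pow_two]; exact hsq' q)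
  rw [card_top, ← index_eq_card] at h16
  have e1 : N'.index = N.relIndex H := by
    show (N.subgroupOf P).relIndex H' = _
    exact relIndex_subgroupOf hHS
  rw [e1] at h16
  rw [← relIndex_bot_left H, ← relIndex_bot_left N, ← relIndex_mul_relIndex ⊥ N H bot_le hNH]
  rw [mul_comm 16]
  exact Nat.mul_le_mul_left _ (h16.trans (by norm_num))

/-- An elementary subgroup of `S` has order at most sixteen. -/
theorem Hyp.elem_le (h : Hyp S U) {H : Subgroup G} (hHS : H ≤ (S : Subgroup G)) (hsq : ∀ a ∈ H, a * a = 1) :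
    Nat.card H ≤ 16 := by
  simpa using h.section_le (N := ⊥) hHS bot_le (fun a _ x hx => by
    rw [mem_bot] at hx ⊢; rw [hx, mul_one, mul_inv_cancel]) (fun a ha => mem_bot.2 (hsq a ha))

end CfsgLib.NoEightConstrained.CentralFour
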