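import Cfsg.Agent.Lib.NoEightConstrained.CentralFour.Frame

/-!
Fusion in the centraliser of an involution of `U` keeps the product of the two planes.
-/

set_option autoImplicit false
set_option linter.unusedSectionVars false

namespace CfsgLib.NoEightConstrained.CentralFour

open Subgroup
open scoped commutatorElement

universe u

variable {G : Type u} [Group G] [Finite G] {S : Sylow 2 G} {U E F : Subgroup G} {s : G}

theorem inv_conj {Q : Subgroup G} {n : G} (hn : ∀ q ∈ Q, n * q * n⁻¹ ∈ Q) {q : G} (hq : q ∈ Q) :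
    n⁻¹ * q * n ∈ Q := by
  have := (mem_normalizer_iff.1 (inv_mem (mem_normalizer_fintype (S := (Q : Set G)) fun x hx => hn x hx)) q).1 hq
  simpa using this

theorem two_elts (h : Hyp S U) : ∃ a ∈ U, a ≠ 1 ∧ ∃ b ∈ U, b ≠ 1 ∧ a ≠ b := by
  obtain ⟨a, ha, ha1⟩ : ∃ a ∈ U, a ≠ 1 := by
    by_contra hn
    push Not at hn
    have h4 := h.card
    rw [(Subgroup.eq_bot_iff_forall U).2 hn, Subgroup.card_bot] at h4
    norm_num at h4
  refine ⟨a, ha, ha1, ?_⟩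
  by_contra hno
  push Not at hno
  have hsub : (U : Set G) ⊆ {1, a} := fun v hv => by
    by_cases hv1 : v = 1
    · exact Or.inl hv1
    · exact Or.inr (hno v hv hv1).symm
  have h2 := Set.ncard_le_ncard hsub (Set.toFinite _)
  rw [← Nat.card_coe_set_eq, SetLike.coe_sort_coe, h.card] at h2
  have h3 := Set.ncard_insert_le 1 ({a} : Set G)
  rw [Set.ncard_singleton] at h3
  omega

/-- The subgroup of a finite group given by a condition closed under products. -/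
def finSub (p : G → Prop) (h1 : p 1) (hmul : ∀ a b, p a → p b → p (a * b)) : Subgroup G where
  carrier := {g | p g}
  one_mem' := h1
  mul_mem' := fun ha hb => hmul _ _ ha hb
  inv_mem' := by
    intro a ha
    have hp : ∀ k : ℕ, p (a ^ k) := fun k => by
      induction k with
      | zero => rwa [pow_zero]
      | succ k ih => rw [pow_succ]; exact hmul _ _ ih ha
    have : a⁻¹ = a ^ (orderOf a - 1) := by
      refine inv_eq_of_mul_eq_one_left ?_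
      rw [← pow_succ, Nat.sub_add_cancel (orderOf_pos a), pow_orderOf_eq_one]
    show p a⁻¹
    rw [this]
    exact hp _

theorem odd_fix {g x d : G} (h : g * x * g⁻¹ = d * x) (hd : g * d = d * g) (hd4 : d * d * (d * d) = 1)
    (ho : Odd (orderOf g)) : g * x = x * g := by
  have hp : ∀ k : ℕ, g ^ k * x * (g ^ k)⁻¹ = d ^ k * x := fun k => by
    induction k with
    | zero => simp
    | succ k ih =>
      have hc : Commute g (d ^ k) := (show Commute g d from hd).pow_right k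
      calc g ^ (k + 1) * x * (g ^ (k + 1))⁻¹ = g * (g ^ k * x * (g ^ k)⁻¹) * g⁻¹ := by rw [pow_succ']; group
        _ = g * d ^ k * x * g⁻¹ := by rw [ih, mul_assoc g (d ^ k) x]
        _ = d ^ k * (g * x * g⁻¹) := by rw [hc.eq]; group
        _ = d ^ (k + 1) * x := by rw [h, pow_succ, mul_assoc]
  have h1 := hp (orderOf g)
  rw [pow_orderOf_eq_one, one_mul, inv_one, mul_one] at h1
  have hd1 : d ^ orderOf g = 1 := mul_eq_right.1 h1.symm
  have hd2 : d ^ 2 ^ 2 = 1 := by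
    rw [show (2 : ℕ) ^ 2 = 2 * 2 from rfl, pow_mul, pow_two, pow_two]
    exact hd4
  have h2 := pow_gcd_eq_one.2 ⟨hd1, hd2⟩
  rw [Nat.Coprime.pow_right 2 (Nat.coprime_two_right.2 ho), pow_one] at h2
  rw [h2, one_mul] at h
  exact mul_inv_eq_iff_eq_mul.1 h

namespace Pair

variable (h : Hyp S U) (P : Pair S U E F)
include h P

theorem comm_U {x y : G} (hx : x ∈ P.join) (hy : y ∈ P.join) : x * y * x⁻¹ * y⁻¹ ∈ U := by
  have h2 := inv_mem (P.sq_mem h hx)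
  have hc : Commute ((x * x)⁻¹) y := h.central _ h2 y (P.join_le h hy)
  have e : x * y * x⁻¹ * y⁻¹ = x * y * (x * y) * (y⁻¹ * ((x * x)⁻¹ * y)) * (y * y)⁻¹ := by group
  rw [e, hc.eq, inv_mul_cancel_left]
  exact mul_mem (mul_mem (P.sq_mem h (mul_mem hx hy)) h2) (inv_mem (P.sq_mem h hy))

theorem U_le_join : U ≤ P.join := fun _ hv => P.left_le h (P.left.Ule hv)

/-- An element outside `U` of a plane is conjugate to an element of `U`. -/
theorem five {e : G} (he : e ∈ E) (heU : e ∉ U) : ∃ g : G, ∃ v ∈ U, v ≠ 1 ∧ g * v * g⁻¹ = e := by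
  obtain ⟨g, hg, hd⟩ := P.left.gen
  obtain ⟨a, ha, v, hv, rfl⟩ := P.left.split h hg hd he
  have hv1 : v ≠ 1 := by
    rintro rfl
    exact heU (by rwa [mul_one, mul_inv_cancel, mul_one])
  obtain ⟨f, -, hf⟩ := P.symm.exists_comm h (hg v hv) (fun hU => hv1 (hd v hv hU)) ha
  refine ⟨f * g, v, hv, hv1, ?_⟩
  rw [← hf]
  group

theorem five_join {x : G} (hx : x ∈ P.join) (hx2 : x * x = 1) (hxU : x ∉ U) :
    ∃ g : G, ∃ v ∈ U, v ≠ 1 ∧ g * v * g⁻¹ = x :=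
  (P.invol_mem h hx hx2).elim (fun he => P.five h he hxU) fun hf => P.symm.five h hf hxU

end Pair

namespace Frame

variable (h : Hyp S U) (Fr : Frame S U E F s)
include h Fr

theorem s_not_join : s ∉ Fr.pair.join := fun hs => by
  obtain ⟨e₁, he₁, f₁, hf₁, e⟩ := (Fr.pair.mem_join h).1 hs
  refine Fr.pair.ne (Fr.pair.left.eq_of_le Fr.pair.right fun x hx => ?_)
  have h1 : e₁ * f₁ * (f₁⁻¹ * (e₁⁻¹ * x * e₁) * f₁) * (e₁ * f₁)⁻¹ = x := by group
  rw [← h1, ← e]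
  refine Fr.swap_left _ ?_
  simpa using Fr.pair.norm_left f₁⁻¹ (inv_mem hf₁) _ (mul_mem (mul_mem (inv_mem he₁) hx) he₁)

theorem s_norm {x : G} (hx : x ∈ Fr.pair.join) : s * x * s⁻¹ ∈ Fr.pair.join := by
  obtain ⟨e, he, f, hf, rfl⟩ := (Fr.pair.mem_join h).1 hx
  rw [show s * (e * f) * s⁻¹ = s * e * s⁻¹ * (s * f * s⁻¹) by group]
  exact mul_mem (Fr.pair.right_le h (Fr.swap_left e he)) (Fr.pair.left_le h (Fr.swap_right f hf))

theorem ss_mem : s * s ∈ Fr.pair.join :=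
  (Fr.cover _ (mul_mem Fr.s_mem Fr.s_mem)).resolve_right fun hc =>
    Fr.s_not_join h (by rwa [inv_mul_cancel_left] at hc)

theorem outer {q : G} (hq : q ∈ (S : Subgroup G)) (hqJ : q ∉ Fr.pair.join) :
    ∃ j ∈ Fr.pair.join, q = s * j :=
  ⟨_, (Fr.cover q hq).resolve_left hqJ, (mul_inv_cancel_left s q).symm⟩

/-- The elements of the product fixed by the exchange modulo `U`. -/
def D : Subgroup G :=
  finSub (fun x => x ∈ Fr.pair.join ∧ s * x * s⁻¹ * x⁻¹ ∈ U) ⟨one_mem _, by simp⟩ fun a b ha hb => by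
    refine ⟨mul_mem ha.1 hb.1, ?_⟩
    have hc : Commute a (s * b * s⁻¹ * b⁻¹) := (h.central _ hb.2 a (Fr.pair.join_le h ha.1)).symm
    rw [show s * (a * b) * s⁻¹ * (a * b)⁻¹ = s * a * s⁻¹ * a⁻¹ * (a * (s * b * s⁻¹ * b⁻¹) * a⁻¹) by group,
      hc.eq, mul_inv_cancel_right]
    exact mul_mem ha.2 hb.2

theorem mem_D {x : G} : x ∈ Fr.D h ↔ x ∈ Fr.pair.join ∧ s * x * s⁻¹ * x⁻¹ ∈ U := Iff.rfl

theorem mem_D_of {q x : G} (hq : q ∈ (S : Subgroup G)) (hqJ : q ∉ Fr.pair.join) (hx : x ∈ Fr.pair.join) :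
    x ∈ Fr.D h ↔ q * x * q⁻¹ * x⁻¹ ∈ U := by
  obtain ⟨j, hj, rfl⟩ := Fr.outer h hq hqJ
  have hc := Fr.pair.comm_U h hj hx
  have e : s * j * x * (s * j)⁻¹ * x⁻¹ = j * x * j⁻¹ * x⁻¹ * (s * x * s⁻¹ * x⁻¹) := by
    calc s * j * x * (s * j)⁻¹ * x⁻¹ = s * (j * x * j⁻¹ * x⁻¹) * (x * s⁻¹ * x⁻¹) := by group
      _ = j * x * j⁻¹ * x⁻¹ * s * (x * s⁻¹ * x⁻¹) := by rw [← h.central _ hc s Fr.s_mem]
      _ = _ := by group
  rw [e, Fr.mem_D h]
  exact ⟨fun hm => mul_mem hc hm.2, fun hm => ⟨hx, by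
    have := mul_mem (inv_mem hc) hm
    rwa [inv_mul_cancel_left] at this⟩⟩

theorem U_le_D : U ≤ Fr.D h := fun v hv =>
  (Fr.mem_D h).2 ⟨Fr.pair.U_le_join h hv, by
    rw [← h.central v hv s Fr.s_mem, mul_inv_cancel_right, mul_inv_cancel]; exact one_mem _⟩

theorem D_norm {q x : G} (hq : q ∈ (S : Subgroup G)) (hx : x ∈ Fr.D h) : q * x * q⁻¹ ∈ Fr.D h := by
  by_cases hqJ : q ∈ Fr.pair.join
  · have := mul_mem (Fr.U_le_D h (Fr.pair.comm_U h hqJ hx.1)) hx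
    rwa [inv_mul_cancel_right] at this
  · have := mul_mem (Fr.U_le_D h ((Fr.mem_D_of h hq hqJ hx.1).1 hx)) hx
    rwa [inv_mul_cancel_right] at this

theorem D_sq {x : G} (hx : x ∈ Fr.D h) : x * x * (x * x) = 1 := h.sq _ (Fr.pair.sq_mem h hx.1)

theorem q_swap_left {q e : G} (hq : q ∈ (S : Subgroup G)) (hqJ : q ∉ Fr.pair.join) (he : e ∈ E) :
    q * e * q⁻¹ ∈ F := by
  obtain ⟨j, hj, rfl⟩ := Fr.outer h hq hqJ
  obtain ⟨e₁, he₁, f₁, hf₁, rfl⟩ := (Fr.pair.mem_join h).1 hj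
  rw [show s * (e₁ * f₁) * e * (s * (e₁ * f₁))⁻¹ = s * (e₁ * (f₁ * e * f₁⁻¹) * e₁⁻¹) * s⁻¹ by group]
  exact Fr.swap_left _ (mul_mem (mul_mem he₁ (Fr.pair.norm_left f₁ hf₁ e he)) (inv_mem he₁))

theorem q_swap_right {q f : G} (hq : q ∈ (S : Subgroup G)) (hqJ : q ∉ Fr.pair.join) (hf : f ∈ F) :
    q * f * q⁻¹ ∈ E := by
  obtain ⟨j, hj, rfl⟩ := Fr.outer h hq hqJ
  obtain ⟨e₁, he₁, f₁, hf₁, rfl⟩ := (Fr.pair.mem_join h).1 hj
  rw [show s * (e₁ * f₁) * f * (s * (e₁ * f₁))⁻¹ = s * (e₁ * (f₁ * f * f₁⁻¹) * e₁⁻¹) * s⁻¹ by group]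
  exact Fr.swap_right _ (Fr.pair.norm_right e₁ he₁ _ (mul_mem (mul_mem hf₁ hf) (inv_mem hf₁)))

theorem qq_mem {q : G} (hq : q ∈ (S : Subgroup G)) (hqJ : q ∉ Fr.pair.join) : q * q ∈ Fr.pair.join := by
  obtain ⟨j, hj, rfl⟩ := Fr.outer h hq hqJ
  rw [show s * j * (s * j) = s * j * s⁻¹ * (s * s) * j by group]
  exact mul_mem (mul_mem (Fr.s_norm h hj) (Fr.ss_mem h)) hj

theorem mul_conj_mem_D {q x : G} (hq : q ∈ (S : Subgroup G)) (hqJ : q ∉ Fr.pair.join) (hx : x ∈ Fr.pair.join) :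
    q * x * q⁻¹ * x⁻¹ ∈ Fr.D h := by
  have hx' : q * x * q⁻¹ ∈ Fr.pair.join := by
    obtain ⟨e, he, f, hf, rfl⟩ := (Fr.pair.mem_join h).1 hx
    rw [show q * (e * f) * q⁻¹ = q * e * q⁻¹ * (q * f * q⁻¹) by group]
    exact mul_mem (Fr.pair.right_le h (Fr.q_swap_left h hq hqJ he))
      (Fr.pair.left_le h (Fr.q_swap_right h hq hqJ hf))
  refine (Fr.mem_D_of h hq hqJ (mul_mem hx' (inv_mem hx))).2 ?_
  set u := q * q * x * (q * q)⁻¹ * x⁻¹
  have hu : u ∈ U := Fr.pair.comm_U h (Fr.qq_mem h hq hqJ) hx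
  have e : q * (q * x * q⁻¹ * x⁻¹) * q⁻¹ * (q * x * q⁻¹ * x⁻¹)⁻¹ =
      u * (x * (q * x * q⁻¹)⁻¹ * (x * (q * x * q⁻¹)⁻¹)) := by simp only [u]; group
  rw [e]
  exact mul_mem hu (Fr.pair.sq_mem h (mul_mem hx (inv_mem hx')))

theorem D_comm {x y : G} (hx : x ∈ Fr.D h) (hy : y ∈ Fr.D h) : x * y = y * x := by
  -- each element is a product of an element of the first plane, its image and an element of `U`
  have key : ∀ z ∈ Fr.D h, ∃ e ∈ E, ∃ u ∈ U, z = e * (s * e * s⁻¹) * u := by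
    rintro z ⟨hz, hzU⟩
    obtain ⟨e, he, f, hf, rfl⟩ := (Fr.pair.mem_join h).1 hz
    have hf' := Fr.swap_right f hf
    have he' := Fr.swap_left e he
    have h1 : (s * e * s⁻¹)⁻¹ * (s * e * s⁻¹ * (s * f * s⁻¹) * f⁻¹ * e⁻¹) * (s * e * s⁻¹) =
        s * f * s⁻¹ * f⁻¹ * e⁻¹ * (s * e * s⁻¹) := by group
    have hu : s * e * s⁻¹ * (s * f * s⁻¹) * f⁻¹ * e⁻¹ ∈ U := by
      rwa [show s * (e * f) * s⁻¹ * (e * f)⁻¹ = s * e * s⁻¹ * (s * f * s⁻¹) * f⁻¹ * e⁻¹ by group] at hzU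
    rw [mul_assoc, h.central _ hu _ (Fr.pair.right.le he'), inv_mul_cancel_left] at h1
    have hc := Fr.pair.symm.comm_mem h (inv_mem hf) (inv_mem he)
    have hm : s * f * s⁻¹ * e⁻¹ * (f⁻¹ * (s * e * s⁻¹)) ∈ U := by
      have e3 : s * f * s⁻¹ * e⁻¹ * (f⁻¹ * (s * e * s⁻¹)) =
          s * f * s⁻¹ * (e⁻¹ * f⁻¹ * e⁻¹⁻¹ * f⁻¹⁻¹) * (f⁻¹ * e⁻¹ * (s * e * s⁻¹)) := by group
      have hc' : e⁻¹ * f⁻¹ * e⁻¹⁻¹ * f⁻¹⁻¹ ∈ U := Fr.pair.comm_mem h (inv_mem he) (inv_mem hf)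
      rw [e3, ← h.central _ hc' _ (Fr.pair.left.le hf'), mul_assoc, show s * f * s⁻¹ *
        (f⁻¹ * e⁻¹ * (s * e * s⁻¹)) = s * f * s⁻¹ * f⁻¹ * e⁻¹ * (s * e * s⁻¹) by group, ← h1]
      exact mul_mem hc' hu
    have ha : f⁻¹ * (s * e * s⁻¹) ∈ U := by
      refine Fr.pair.inter h ?_ (mul_mem (inv_mem hf) he')
      have := mul_mem (inv_mem (mul_mem hf' (inv_mem he))) (Fr.pair.left.Ule hm)
      rwa [inv_mul_cancel_left] at this
    exact ⟨e, he, _, inv_mem ha, by group⟩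
  obtain ⟨a, ha, u, hu, rfl⟩ := key x hx
  obtain ⟨b, hb, v, hv, rfl⟩ := key y hy
  set a' := s * a * s⁻¹
  set b' := s * b * s⁻¹
  have ha' : a' ∈ F := Fr.swap_left a ha
  have hb' : b' ∈ F := Fr.swap_left b hb
  set c := a' * b * a'⁻¹ * b⁻¹
  have hc : c ∈ U := Fr.pair.symm.comm_mem h ha' hb
  have hb'' : b' * a * b'⁻¹ * a⁻¹ = c := by
    -- conjugating by the exchange
    obtain ⟨u', hu', hb2⟩ : ∃ u' ∈ U, s * b' * s⁻¹ = u' * b := ⟨s * b' * s⁻¹ * b⁻¹, by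
      rw [show s * b' * s⁻¹ * b⁻¹ = s * s * b * (s * s)⁻¹ * b⁻¹ by simp only [b']; group]
      exact Fr.pair.comm_U h (Fr.ss_mem h) (Fr.pair.left_le h hb), by rw [inv_mul_cancel_right]⟩
    have hS : ∀ {z : G}, z ∈ Fr.pair.join → Commute u' z := fun hz => h.central u' hu' _ (Fr.pair.join_le h hz)
    have hbJ := Fr.pair.left_le h hb
    have haJ := Fr.pair.right_le h ha'
    set d := b' * a * b'⁻¹ * a⁻¹
    have hd : d ∈ U := Fr.pair.symm.comm_mem h hb' ha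
    have e1 : s * d * s⁻¹ = u' * b * a' * (u' * b)⁻¹ * a'⁻¹ := by rw [← hb2]; simp only [d, a']; group
    rw [← h.central d hd s Fr.s_mem, mul_inv_cancel_right] at e1
    have e2 : u' * b * a' * (u' * b)⁻¹ = b * a' * b⁻¹ := by
      rw [show u' * b * a' * (u' * b)⁻¹ = u' * (b * a' * b⁻¹) * u'⁻¹ by group,
        (hS (mul_mem (mul_mem hbJ haJ) (inv_mem hbJ))).eq, mul_inv_cancel_right]
    rw [e2] at e1
    have e3 : d = c⁻¹ := by rw [e1]; simp only [c]; group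
    rw [e3, inv_of_sq (h.sq c hc)]
  have hab : a * b = b * a := Fr.pair.left.comm ha hb
  have hab' : a' * b' = b' * a' := Fr.pair.right.comm ha' hb'
  have hJ : ∀ {z : G}, z ∈ Fr.pair.join → Commute c z := fun hz => h.central c hc _ (Fr.pair.join_le h hz)
  have haJ := Fr.pair.left_le h ha
  have hbJ := Fr.pair.left_le h hb
  have main : Commute (a * a') (b * b') := by
    show a * a' * (b * b') = b * b' * (a * a')
    calc a * a' * (b * b') = a * (a' * b * a'⁻¹ * b⁻¹) * b * (a' * b') := by group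
      _ = a * c * b * (a' * b') := rfl
      _ = c * (a * b) * (a' * b') := by rw [← (hJ haJ).eq, mul_assoc c a b]
      _ = c * (b * a) * (b' * a') := by rw [hab, hab']
      _ = b * c * a * (b' * a') := by rw [← mul_assoc c b a, (hJ hbJ).eq]
      _ = b * (b' * a * b'⁻¹ * a⁻¹) * a * (b' * a') := by rw [hb'']
      _ = b * b' * (a * a') := by group
  have hz : ∀ {z : G}, z ∈ (S : Subgroup G) → Commute u z := fun hz => h.central u hu _ hz
  have hz' : ∀ {z : G}, z ∈ (S : Subgroup G) → Commute v z := fun hz => h.central v hv _ hz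
  have hx1 := Fr.pair.join_le h (mul_mem (Fr.pair.left_le h ha) (Fr.pair.right_le h ha'))
  have hy1 := Fr.pair.join_le h (mul_mem (Fr.pair.left_le h hb) (Fr.pair.right_le h hb'))
  exact (((main.mul_right (hz' hx1).symm)).mul_left ((hz hy1).mul_right (hz (h.le hv)))).eq

theorem no_comm {q x : G} (hq : q ∈ (S : Subgroup G)) (hqJ : q ∉ Fr.pair.join) (hq2 : q * q ∈ U)
    (hx : x ∈ Fr.pair.join) (hqx : q * x = x * q) : x ∈ U := by
  obtain ⟨e, he, f, hf, rfl⟩ := (Fr.pair.mem_join h).1 hx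
  have he' := Fr.q_swap_left h hq hqJ he
  have hf' := Fr.q_swap_right h hq hqJ hf
  set a := e⁻¹ * (q * f * q⁻¹)
  have hfix : q * e * q⁻¹ * (q * f * q⁻¹) = e * f := by
    rw [show q * e * q⁻¹ * (q * f * q⁻¹) = q * (e * f) * q⁻¹ by group, hqx, mul_inv_cancel_right]
  set c := q * e * q⁻¹ * (q * f * q⁻¹) * (q * e * q⁻¹)⁻¹ * (q * f * q⁻¹)⁻¹
  have hc : c ∈ U := Fr.pair.symm.comm_mem h he' hf'
  have h2 : e⁻¹ * c * (q * f * q⁻¹) = f * (q * e * q⁻¹)⁻¹ := by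
    have := congrArg (fun z => e⁻¹ * z * (q * e * q⁻¹)⁻¹) hfix
    rw [show e⁻¹ * (e * f) * (q * e * q⁻¹)⁻¹ = f * (q * e * q⁻¹)⁻¹ by group] at this
    rw [← this]
    simp only [c]; group
  rw [← h.central c hc _ (inv_mem (Fr.pair.left.le he)), mul_assoc] at h2
  have haU : a ∈ U := by
    refine Fr.pair.inter h (mul_mem (inv_mem he) hf') ?_
    have h3 : a = c⁻¹ * (f * (q * e * q⁻¹)⁻¹) := by rw [← h2, inv_mul_cancel_left]
    rw [h3]
    exact mul_mem (Fr.pair.right.Ule (inv_mem hc)) (mul_mem hf (inv_mem he'))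
  have hqq : ∀ {z : G}, z ∈ (S : Subgroup G) → Commute (q * q) z := fun hz => h.central _ hq2 _ hz
  set e' := q * e * q⁻¹
  have hef : f = e' * (q⁻¹ * a * q) := by
    simp only [e', a]
    rw [show q * e * q⁻¹ * (q⁻¹ * (e⁻¹ * (q * f * q⁻¹)) * q) = q * e * (q * q)⁻¹ * e⁻¹ * q * f by group,
      show q * e * (q * q)⁻¹ = q * (e * (q * q)⁻¹) by group, ← ((hqq (Fr.pair.left.le he)).inv_left).eq]
    group
  have haq : q⁻¹ * a * q = a := by rw [mul_assoc, h.central a haU q hq, inv_mul_cancel_left]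
  rw [haq] at hef
  rw [hef] at hqx ⊢
  by_contra hxU
  have heU : e ∉ U := fun heU => hxU (by
    rw [show e' = e by simp only [e']; rw [← h.central e heU q hq, mul_inv_cancel_right], ← mul_assoc,
      h.sq e heU, one_mul]
    exact haU)
  have he'U : e' ∉ U := fun hU => heU (by
    have h1 : q⁻¹ * e' * q = e := by simp only [e']; group
    rw [← h1, mul_assoc, h.central _ hU q hq, inv_mul_cancel_left]
    exact hU)
  refine Fr.pair.not_comm h he heU he' he'U ?_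
  have hqe : q * e' * q⁻¹ = e := by
    rw [show q * e' * q⁻¹ = q * q * e * (q * q)⁻¹ by simp only [e']; group,
      (hqq (Fr.pair.left.le he)).eq, mul_inv_cancel_right]
  have hae : q * a * q⁻¹ = a := by rw [← h.central a haU q hq, mul_inv_cancel_right]
  have h4 : q * (e * (e' * a)) * q⁻¹ = e * (e' * a) := by rw [hqx, mul_inv_cancel_right]
  rw [show q * (e * (e' * a)) * q⁻¹ = e' * (q * e' * q⁻¹) * (q * a * q⁻¹) by simp only [e']; group, hqe, hae,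
    ← mul_assoc e] at h4
  exact (mul_right_cancel h4).symm

theorem D_nontrivial {e : G} (he : e ∈ E) (heU : e ∉ U) :
    s * e * s⁻¹ * e⁻¹ ∈ Fr.D h ∧ s * e * s⁻¹ * e⁻¹ ∉ U := by
  refine ⟨Fr.mul_conj_mem_D h Fr.s_mem (Fr.s_not_join h) (Fr.pair.left_le h he), fun hU => heU ?_⟩
  refine Fr.pair.inter h he ?_
  have : e = (s * e * s⁻¹ * e⁻¹)⁻¹ * (s * e * s⁻¹) := by group
  rw [this]
  exact mul_mem (Fr.pair.right.Ule (inv_mem hU)) (Fr.swap_left e he)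

theorem D_le {Q : Subgroup G} (hQn : ∀ t ∈ (S : Subgroup G), ∀ q ∈ Q, t * q * t⁻¹ ∈ Q) (hUQ : U ≤ Q)
    {y : G} (hy : y ∈ (S : Subgroup G)) (hyQ : y ∈ Q) (hyJ : y ∉ Fr.pair.join) : Fr.D h ≤ Q := by
  intro x hx
  obtain ⟨hxJ, hxU⟩ := (Fr.mem_D h).1 hx
  obtain ⟨e, he, f, hf, rfl⟩ := (Fr.pair.mem_join h).1 hxJ
  have he' := Fr.q_swap_left h hy hyJ he
  have hm : y * e * y⁻¹ * e⁻¹ ∈ Q := by
    rw [show y * e * y⁻¹ * e⁻¹ = y * (e * y⁻¹ * e⁻¹) by group]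
    exact mul_mem hyQ (hQn e (Fr.pair.left.le he) _ (inv_mem hyQ))
  have hd : (y * e * y⁻¹ * e⁻¹)⁻¹ * (e * f) ∈ U := by
    have hmem : (y * e * y⁻¹ * e⁻¹)⁻¹ ∈ Fr.D h := inv_mem (Fr.mul_conj_mem_D h hy hyJ (Fr.pair.left_le h he))
    have hD : (y * e * y⁻¹ * e⁻¹)⁻¹ * (e * f) ∈ Fr.D h := mul_mem hmem hx
    -- it lies in the second plane modulo `U`
    set g := (y * e * y⁻¹)⁻¹ * f
    have hg : g ∈ F := mul_mem (inv_mem he') hf
    have hee : e * e = 1 := Fr.pair.left.sq e he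
    obtain ⟨c, hc, ec⟩ : ∃ c ∈ U, (y * e * y⁻¹ * e⁻¹)⁻¹ * (e * f) = c * g := by
      refine ⟨e * (y * e * y⁻¹)⁻¹ * e⁻¹ * (y * e * y⁻¹)⁻¹⁻¹, Fr.pair.comm_mem h he (inv_mem he'), ?_⟩
      calc (y * e * y⁻¹ * e⁻¹)⁻¹ * (e * f) = e * (y * e * y⁻¹)⁻¹ * e⁻¹ * (y * e * y⁻¹)⁻¹⁻¹ *
            ((y * e * y⁻¹)⁻¹ * (e * e) * f) := by group
        _ = _ := by rw [hee, mul_one]
    rw [ec]
    have hgD : g ∈ Fr.D h := by
      have := mul_mem (inv_mem (Fr.U_le_D h hc)) (ec ▸ hD)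
      rwa [inv_mul_cancel_left] at this
    refine mul_mem hc (Fr.pair.inter h ?_ hg)
    obtain ⟨-, hgU⟩ := (Fr.mem_D h).1 hgD
    have : g = (s * g * s⁻¹ * g⁻¹)⁻¹ * (s * g * s⁻¹) := by group
    rw [this]
    exact mul_mem (Fr.pair.left.Ule (inv_mem hgU)) (Fr.swap_right g hg)
  have := mul_mem hm (hUQ hd)
  rwa [mul_inv_cancel_left] at this

/-- A normal subgroup of `S` meeting the outside of the product: its automorphisms fixing `U` keep `D`. -/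
theorem D_stable {Q : Subgroup G} (hQS : Q ≤ (S : Subgroup G))
    {y : G} (hyQ : y ∈ Q) (hyJ : y ∉ Fr.pair.join) (hDQ : Fr.D h ≤ Q) {n : G}
    (hn : ∀ q ∈ Q, n * q * n⁻¹ ∈ Q) (hnU : ∀ v ∈ U, n * v = v * n) {d : G} (hd : d ∈ Fr.D h) :
    n * d * n⁻¹ ∈ Fr.D h := by
  have hnS : ∀ {x : G}, x ∈ Fr.D h → n * x * n⁻¹ ∈ (S : Subgroup G) := fun hx => hQS (hn _ (hDQ hx))
  have hpre : ∀ {x : G}, n * x * n⁻¹ ∈ U → x ∈ U := fun {x} hx => by
    have e : x = n⁻¹ * (n * x * n⁻¹) * n := by group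
    rw [e, mul_assoc, ← hnU _ hx, inv_mul_cancel_left]
    exact hx
  have hMU : ∀ x ∈ Fr.D h, n * x * n⁻¹ ∈ Fr.pair.join := by
    intro x hx
    by_contra hxJ
    set q := n * x * n⁻¹
    have hq2 : q * q ∈ U := by
      have h1 : q * q = n * (x * x) * n⁻¹ := by simp only [q]; group
      rw [h1, hnU _ (Fr.pair.sq_mem h hx.1), mul_inv_cancel_right]
      exact Fr.pair.sq_mem h hx.1
    -- then the image meets the product only in `U`
    have hcap : ∀ b ∈ Fr.D h, n * b * n⁻¹ ∈ Fr.pair.join → b ∈ U := fun b hb hbJ =>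
      hpre (Fr.no_comm h (hnS hx) hxJ hq2 hbJ (by
        rw [show n * x * n⁻¹ * (n * b * n⁻¹) = n * (x * b) * n⁻¹ by group, Fr.D_comm h hx hb]; group))
    have hone : ∀ b ∈ Fr.D h, b ∉ U → x⁻¹ * b ∈ U := by
      intro b hb hbU
      refine hcap _ (mul_mem (inv_mem hx) hb) ?_
      have h1 := (Fr.cover _ (hnS hx)).resolve_left hxJ
      have h2 := (Fr.cover _ (hnS hb)).resolve_left fun hJ => hbU (hcap b hb hJ)
      rw [show n * (x⁻¹ * b) * n⁻¹ = (s⁻¹ * (n * x * n⁻¹))⁻¹ * (s⁻¹ * (n * b * n⁻¹)) by group]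
      exact mul_mem (inv_mem h1) h2
    obtain ⟨g, hg, hgd⟩ := Fr.pair.left.gen
    obtain ⟨a, ha, ha1, b, hb, hb1, hab⟩ := two_elts h
    have hne : ∀ v ∈ U, v ≠ 1 → g * v * g⁻¹ ∉ U := fun v hv hv1 hU => hv1 (hgd v hv hU)
    obtain ⟨hA, hA'⟩ := Fr.D_nontrivial h (hg a ha) (hne a ha ha1)
    obtain ⟨hB, hB'⟩ := Fr.D_nontrivial h (hg b hb) (hne b hb hb1)
    have hAB := hone _ hB hB'
    have hAA := hone _ hA hA'
    set A := s * (g * a * g⁻¹) * s⁻¹ * (g * a * g⁻¹)⁻¹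
    set B := s * (g * b * g⁻¹) * s⁻¹ * (g * b * g⁻¹)⁻¹
    have hm : A⁻¹ * B ∈ U := by
      have := mul_mem (inv_mem hAA) hAB
      rwa [_root_.mul_inv_rev, inv_inv, mul_assoc A⁻¹ x, mul_inv_cancel_left] at this
    set ea := g * a * g⁻¹
    set eb := g * b * g⁻¹
    have hf : (s * ea * s⁻¹)⁻¹ * (s * eb * s⁻¹) ∈ F :=
      mul_mem (inv_mem (Fr.swap_left _ (hg a ha))) (Fr.swap_left _ (hg b hb))
    have he : ea⁻¹ * eb ∈ E := mul_mem (inv_mem (hg a ha)) (hg b hb)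
    have heU : ea⁻¹ * eb ∉ U := by
      rw [show ea⁻¹ * eb = g * (a⁻¹ * b) * g⁻¹ by simp only [ea, eb]; group]
      exact hne _ (U.mul_mem (U.inv_mem ha) hb) fun e => hab (inv_mul_eq_one.1 e)
    refine heU (Fr.pair.inter h he ?_)
    -- modulo `U` the planes commute
    have e1 : A⁻¹ * B = ea * ((s * ea * s⁻¹)⁻¹ * (s * eb * s⁻¹)) * eb⁻¹ := by simp only [A, B, ea, eb]; group
    set f' := (s * ea * s⁻¹)⁻¹ * (s * eb * s⁻¹)
    have hc := Fr.pair.comm_mem h (hg a ha) hf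
    have hm' : f' * (ea * eb⁻¹) ∈ U := by
      have e2 : f' * (ea * eb⁻¹) = (ea * f' * ea⁻¹ * f'⁻¹)⁻¹ * (ea * f' * eb⁻¹) := by group
      rw [e2, ← e1]
      exact mul_mem (inv_mem hc) hm
    have hcomm : ea * eb⁻¹ = eb⁻¹ * ea := Fr.pair.left.comm (hg a ha) (inv_mem (hg b hb))
    have e4 : ea⁻¹ * eb = (f' * (ea * eb⁻¹))⁻¹ * f' := by rw [hcomm]; group
    rw [e4]
    exact mul_mem (Fr.pair.right.Ule (inv_mem hm')) hf
  -- the image is inside the product and is normalised by `y`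
  have hy : y ∈ (S : Subgroup G) := hQS hyQ
  set v := n * d * n⁻¹
  have hv : v ∈ Fr.pair.join := hMU d hd
  set y' := n⁻¹ * y * n
  have hy' : y' ∈ (S : Subgroup G) := hQS (inv_conj hn hyQ)
  have hcomm : v * (y * v * y⁻¹) = y * v * y⁻¹ * v := by
    have h1 := Fr.D_comm h hd (Fr.D_norm h hy' hd)
    have e1 : y * v * y⁻¹ = n * (y' * d * y'⁻¹) * n⁻¹ := by simp only [v, y']; group
    rw [e1, show v = n * d * n⁻¹ from rfl,
      show n * d * n⁻¹ * (n * (y' * d * y'⁻¹) * n⁻¹) = n * (d * (y' * d * y'⁻¹)) * n⁻¹ by group, h1]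
    group
  refine (Fr.mem_D_of h hy hyJ hv).2 ?_
  obtain ⟨e, he, f, hf, hvef⟩ := (Fr.pair.mem_join h).1 hv
  rw [hvef] at hcomm ⊢
  set e' := y * e * y⁻¹
  set f' := y * f * y⁻¹
  have he' : e' ∈ F := Fr.q_swap_left h hy hyJ he
  have hf' : f' ∈ E := Fr.q_swap_right h hy hyJ hf
  have hef : y * (e * f) * y⁻¹ = e' * f' := by simp only [e', f']; group
  rw [hef] at hcomm ⊢
  have hS : ∀ {z w : G}, z ∈ U → w ∈ Fr.pair.join → Commute z w := fun hz hw =>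
    h.central _ hz _ (Fr.pair.join_le h hw)
  have hE := Fr.pair.left_le h
  have hF := Fr.pair.right_le h
  set c₁ := f * f' * f⁻¹ * f'⁻¹
  set c₂ := e' * e * e'⁻¹ * e⁻¹
  set c₃ := f' * e' * f'⁻¹ * e'⁻¹
  set c₄ := f * e * f⁻¹ * e⁻¹
  have h₁ : c₁ ∈ U := Fr.pair.symm.comm_mem h hf hf'
  have h₂ : c₂ ∈ U := Fr.pair.symm.comm_mem h he' he
  have h₃ : c₃ ∈ U := Fr.pair.comm_mem h hf' he'
  have h₄ : c₄ ∈ U := Fr.pair.symm.comm_mem h hf he
  set X := e * e' * f' * f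
  have hfe : f * e' = e' * f := Fr.pair.right.comm hf he'
  have hef' : e * f' = f' * e := Fr.pair.left.comm he hf'
  have L1 : e * f * (e' * f') = c₁ * X := by
    calc e * f * (e' * f') = e * (f * e') * f' := by group
      _ = e * e' * c₁ * (f' * f) := by rw [hfe]; simp only [c₁]; group
      _ = c₁ * (e * e') * (f' * f) := by rw [(hS h₁ (mul_mem (hE he) (hF he'))).eq]
      _ = c₁ * X := by simp only [X]; group
  have R1 : e' * f' * (e * f) = c₂ * X := by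
    calc e' * f' * (e * f) = e' * (f' * e) * f := by group
      _ = c₂ * X := by rw [← hef']; simp only [c₂, X]; group
  have h12 : c₁ = c₂ := mul_right_cancel (L1.symm.trans (hcomm.trans R1))
  have L2 : e * f' * (e' * f) = c₃ * X := by
    calc e * f' * (e' * f) = e * c₃ * (e' * f' * f) := by simp only [c₃]; group
      _ = c₃ * e * (e' * f' * f) := by rw [(hS h₃ (hE he)).eq]
      _ = c₃ * X := by simp only [X]; group
  have R2 : e' * f * (e * f') = c₄ * c₂ * c₁ * X := by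
    calc e' * f * (e * f') = e' * c₄ * (e * f * f') := by simp only [c₄]; group
      _ = c₄ * (e' * e) * (f * f') := by rw [← (hS h₄ (hF he')).eq]; group
      _ = c₄ * c₂ * (e * e') * c₁ * (f' * f) := by simp only [c₁, c₂]; group
      _ = c₄ * c₂ * (e * e' * c₁) * (f' * f) := by group
      _ = c₄ * c₂ * c₁ * X := by rw [← (hS h₁ (mul_mem (hE he) (hF he'))).eq]; simp only [X]; group
  have h34 : c₃ = c₄ := by
    have e1 : y * c₄ * y⁻¹ = c₃ := by simp only [c₄, c₃, e', f']; group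
    rw [← e1, ← h.central _ h₄ y hy, mul_inv_cancel_right]
  set g := e * f'
  have hg : g ∈ E := mul_mem he hf'
  have hg' : e' * f ∈ F := mul_mem he' hf
  have hgg : g * (e' * f) = e' * f * g := by
    rw [L2, R2, h12, h34, mul_assoc c₄ c₂ c₂, h.sq _ h₂, mul_one]
  have hyy : y * y * f * (y * y)⁻¹ * f⁻¹ ∈ U := Fr.pair.comm_U h (Fr.qq_mem h hy hyJ) (hF hf)
  have hgim : y * g * y⁻¹ = e' * (y * y * f * (y * y)⁻¹ * f⁻¹) * f := by simp only [g, e', f']; group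
  rw [← (hS hyy (hF he')).eq, mul_assoc (y * y * f * (y * y)⁻¹ * f⁻¹) e' f] at hgim
  have hgU : g ∈ U := by
    by_contra hgU
    refine Fr.pair.not_comm h hg hgU hg' (fun hU => hgU ?_) hgg
    have h5 : y * g * y⁻¹ ∈ U := hgim ▸ mul_mem hyy hU
    rw [show g = y⁻¹ * (y * g * y⁻¹) * y by group, mul_assoc, h.central _ h5 y hy, inv_mul_cancel_left]
    exact h5
  have hg'U : e' * f ∈ U := by
    have h5 : y * g * y⁻¹ ∈ U := by rw [← h.central g hgU y hy, mul_inv_cancel_right]; exact hgU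
    rw [hgim] at h5
    have := mul_mem (inv_mem hyy) h5
    rwa [inv_mul_cancel_left] at this
  -- so the image of `e f` agrees with it modulo `U`
  have hfin : e' * f' * (e * f)⁻¹ = e' * f * g * (f⁻¹⁻¹ * e * f⁻¹ * e⁻¹) := by
    have h1 : f⁻¹ = f := inv_of_sq (Fr.pair.right.sq f hf)
    have h2 : e⁻¹ = e := inv_of_sq (Fr.pair.left.sq e he)
    have hcg : Commute g (f * e) := hS hgU (mul_mem (hF hf) (hE he))
    calc e' * f' * (e * f)⁻¹ = e' * f * (f⁻¹ * e⁻¹ * g) * (f⁻¹ * e⁻¹) := by simp only [g]; group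
      _ = e' * f * (f * e * g) * (f⁻¹ * e⁻¹) := by rw [h1, h2]
      _ = e' * f * g * (f⁻¹⁻¹ * e * f⁻¹ * e⁻¹) := by rw [← hcg.eq]; group
  rw [hfin]
  refine mul_mem (mul_mem hg'U hgU) ?_
  rw [inv_inv]
  exact h₄

end Frame

end CfsgLib.NoEightConstrained.CentralFour
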