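import Cfsg.Agent.Lib.NoEightConstrained.Basic
import Cfsg.Agent.Lib.PairSol.CentCore
import Cfsg.Agent.Lib.NoEightConstrained.CentralFour.Basic

/-!
The hypotheses on a central four-group from constraint of the centralisers of its involutions.
-/

set_option autoImplicit false
set_option linter.style.haveILetI false

namespace CfsgLib.NoEightConstrained.CentralFour

open Subgroup Cfsg

universe u

variable {G : Type u} [Group G] [Finite G]

theorem four_mem {U : Subgroup G} (h4 : Nat.card U = 4) (hsq : ∀ v ∈ U, v * v = 1) {a b : G} (ha : a ∈ U)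
    (hb : b ∈ U) (ha1 : a ≠ 1) (hb1 : b ≠ 1) (hab : a ≠ b) {x : G} (hx : x ∈ U) :
    x = 1 ∨ x = a ∨ x = b ∨ x = a * b := by
  classical
  have h1 : a * b ≠ 1 := fun e => hab (by rw [eq_inv_of_mul_eq_one_left e, inv_of_sq (hsq b hb)])
  have h2 : a * b ≠ a := fun e => hb1 (mul_eq_left.1 e)
  have h3 : a * b ≠ b := fun e => ha1 (mul_eq_right.1 e)
  let s : Finset G := {1, a, b, a * b}
  have hs : s.card = 4 := by
    rw [show s = {1, a, b, a * b} from rfl, Finset.card_insert_of_notMem (by simp [ha1.symm, hb1.symm, h1.symm]),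
      Finset.card_insert_of_notMem (by simp [hab, h2.symm]),
      Finset.card_insert_of_notMem (by simp [h3.symm]), Finset.card_singleton]
  have hsub : (s : Set G) ⊆ (U : Set G) := by
    intro y hy
    simp [s] at hy
    rcases hy with rfl | rfl | rfl | rfl
    exacts [U.one_mem, ha, hb, U.mul_mem ha hb]
  have he : (s : Set G) = (U : Set G) := by
    refine Set.eq_of_subset_of_ncard_le hsub ?_ (Set.toFinite _)
    rw [Set.ncard_coe_finset, hs, ← h4, ← Nat.card_coe_set_eq]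
    exact le_rfl
  have : x ∈ (s : Set G) := he ▸ hx
  simpa [s] using this

theorem core_of_constrained (c : Ctx G) (hcentral : ∀ s ∈ (c.S : Subgroup G), ∀ v ∈ c.U, s * v = v * s)
    (hrank : ∀ A : Subgroup G, A ≤ (c.S : Subgroup G) → (c.S : Subgroup G) ≤ normalizer (A : Set G) →
      (∀ x ∈ A, ∀ y ∈ A, x * y = y * x) → (∀ x ∈ A, x * x = 1) → Nat.card A ≤ 4)
    {w : G} (hw : w ∈ c.U) (hw1 : w ≠ 1) : Local c.S c.U w := by
  classical
  haveI : Fact (Nat.Prime 2) := ⟨Nat.prime_two⟩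
  set C := centralizer ({w} : Set G) with hCdef
  have hCm : ∀ {x : G}, x ∈ C ↔ x * w = w * x := mem_centralizer_singleton_iff
  have hSC : (c.S : Subgroup G) ≤ C := fun s hs => hCm.2 (hcentral s hs w hw)
  have hcon : IsPConstrained 2 C := c.cons w (c.U_le hw)
    (orderOf_eq_prime (by rw [pow_two]; exact c.U_sq w hw) hw1) (by
      rw [inf_eq_right.2 hSC, relIndex_self]
      norm_num)
  set SC : Sylow 2 C := c.S.subtype hSC
  set L := pPrimePCore 2 C with hL
  haveI hLn : L.Normal := normal_comap _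
  set Kc := pPrimeCore 2 C with hKc
  haveI : Kc.Normal := Subgroup.sSup_normal _ (fun _ h => h.1)
  obtain ⟨T, hT⟩ := CfsgLib.PLocal.exists_sylow_inf SC L
  set QC := (SC : Subgroup C) ⊓ L with hQC
  have hLK : L ≤ Kc ⊔ QC := by
    intro l hl
    obtain ⟨k, hk, s, hs, rfl⟩ := Subgroup.mem_sup_of_normal_left.1 (CfsgLib.PairSol.pPrimePCore_le_sup SC hl)
    have hkL : k ∈ L := by
      show QuotientGroup.mk' Kc k ∈ pCore 2 (C ⧸ Kc)
      rw [show QuotientGroup.mk' Kc k = 1 from (QuotientGroup.eq_one_iff k).2 hk]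
      exact one_mem _
    refine mul_mem_sup hk ⟨hs, ?_⟩
    simpa using mul_mem (inv_mem hkL) hl
  have htop := T.normalizer_sup_eq_top
  rw [hT] at htop
  set K := Kc.map C.subtype
  set Q := QC.map C.subtype
  have hQmem : ∀ {x : G}, x ∈ Q ↔ ∃ hx : x ∈ C, (⟨x, hx⟩ : C) ∈ L ∧ x ∈ (c.S : Subgroup G) := by
    intro x
    constructor
    · rintro ⟨y, ⟨hyS, hyL⟩, rfl⟩
      exact ⟨y.2, hyL, hyS⟩
    · rintro ⟨hx, hxL, hxS⟩
      exact ⟨⟨x, hx⟩, ⟨hxS, hxL⟩, rfl⟩
  have hcentL : ∀ g : C, (∀ q ∈ Q, (g : G) * q = q * g) → g ∈ L := fun g hg => by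
    refine hcon T ?_
    rw [hT]
    exact fun q hq => Subtype.ext (hg _ ⟨q, hq, rfl⟩).symm
  have hQS : Q ≤ (c.S : Subgroup G) := fun x hx => (hQmem.1 hx).2.2
  have hnQ : ∀ s ∈ (c.S : Subgroup G), ∀ q ∈ Q, s * q * s⁻¹ ∈ Q := by
    intro s hs q hq
    obtain ⟨hqC, hqL, hqS⟩ := hQmem.1 hq
    exact hQmem.2 ⟨mul_mem (mul_mem (hSC hs) hqC) (inv_mem (hSC hs)), hLn.conj_mem _ hqL ⟨s, hSC hs⟩,
      mul_mem (mul_mem hs hqS) (inv_mem hs)⟩
  have hself : ∀ x ∈ (c.S : Subgroup G), (∀ q ∈ Q, x * q = q * x) → x ∈ Q := fun x hx h =>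
    hQmem.2 ⟨hSC hx, hcentL ⟨x, hSC hx⟩ h, hx⟩
  have hUQ : c.U ≤ Q := fun v hv => hself v (c.U_le hv) fun q hq => (hcentral q (hQS hq) v hv).symm
  have hK2 : Odd (Nat.card K) := by
    rw [card_map_of_injective C.subtype_injective]
    exact Nat.coprime_two_right.1 (CfsgLib.card_pPrimeCore_coprime 2)
  have hfac : ∀ g, g * w = w * g → ∃ k ∈ K, ∃ n, n * w = w * n ∧ (∀ q ∈ Q, n * q * n⁻¹ ∈ Q) ∧ g = k * n := by
    intro g hg
    have hle : normalizer (QC : Set C) ⊔ L ≤ Kc ⊔ normalizer (QC : Set C) :=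
      sup_le le_sup_right (hLK.trans (sup_le_sup_left le_normalizer _))
    rw [htop] at hle
    obtain ⟨k, hk, n, hn, e⟩ := Subgroup.mem_sup_of_normal_left.1 (hle (mem_top (⟨g, hCm.2 hg⟩ : C)))
    refine ⟨k, ⟨k, hk, rfl⟩, n, hCm.1 n.2, ?_, congrArg Subtype.val e.symm⟩
    rintro _ ⟨q, hq, rfl⟩
    exact ⟨n * q * n⁻¹, (mem_normalizer_iff.1 hn q).1 hq, rfl⟩
  -- the involutions of the centre of `Q`
  let Z : Subgroup G :=
    { carrier := {x | x ∈ Q ∧ x * x = 1 ∧ ∀ q ∈ Q, x * q = q * x}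
      one_mem' := ⟨one_mem _, one_mul 1, fun q _ => by rw [one_mul, mul_one]⟩
      mul_mem' := by
        rintro a b ⟨ha, ha2, hac⟩ ⟨hb, hb2, hbc⟩
        exact ⟨mul_mem ha hb, sq_mul_of_comm ha2 hb2 (hac b hb),
          fun q hq => ((show Commute a q from hac q hq).mul_left (show Commute b q from hbc q hq)).eq⟩
      inv_mem' := by
        rintro a ⟨ha, ha2, hac⟩
        rw [show a⁻¹ = a from inv_of_sq ha2]
        exact ⟨ha, ha2, hac⟩ }
  have hZn : ∀ n, (∀ q ∈ Q, n * q * n⁻¹ ∈ Q) → ∀ x ∈ Z, n * x * n⁻¹ ∈ Z := by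
    rintro n hn x ⟨hx, hx2, hxc⟩
    refine ⟨hn x hx, by rw [show n * x * n⁻¹ * (n * x * n⁻¹) = n * (x * x) * n⁻¹ by group, hx2, mul_one,
      mul_inv_cancel], fun q hq => ?_⟩
    have hinj : Function.Injective (fun y : Q => (⟨n * y.1 * n⁻¹, hn _ y.2⟩ : Q)) := fun a b e =>
      Subtype.ext (mul_left_cancel (mul_right_cancel (congrArg Subtype.val e)))
    obtain ⟨⟨y, hy⟩, e⟩ := (Finite.injective_iff_surjective.1 hinj) ⟨q, hq⟩
    have e' : n * y * n⁻¹ = q := congrArg Subtype.val e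
    rw [← e', show n * x * n⁻¹ * (n * y * n⁻¹) = n * (x * y) * n⁻¹ by group, hxc y hy]
    group
  have hZU : Z ≤ c.U := by
    have hUZ : c.U ≤ Z := fun v hv => ⟨hUQ hv, c.U_sq v hv, fun q hq => (hcentral q (hQS hq) v hv).symm⟩
    refine (Subgroup.eq_of_le_of_card_ge hUZ ?_).ge
    rw [c.U_card]
    refine hrank Z (fun x hx => hQS hx.1) (fun s hs => mem_normalizer_iff.2 fun x => ?_)
      (fun x hx y hy => hx.2.2 y hy.1) fun x hx => hx.2.1
    refine ⟨hZn s (hnQ s hs) x, fun h => ?_⟩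
    simpa [mul_assoc] using hZn s⁻¹ (hnQ _ (inv_mem hs)) _ h
  refine ⟨K, Q, hK2, ?_, hQS, hnQ, hUQ, hself, hfac, ?_, ?_⟩
  · rintro g hg _ ⟨k, hk, rfl⟩
    exact ⟨⟨g, hCm.2 hg⟩ * k * ⟨g, hCm.2 hg⟩⁻¹, Subgroup.Normal.conj_mem inferInstance k hk _, rfl⟩
  · intro n hnw hnQ' v hv
    by_cases hv1 : v = 1
    · rw [hv1, mul_one, one_mul]
    by_cases hvw : v = w
    · rw [hvw]; exact hnw
    set v' := n * v * n⁻¹
    have hv' : v' ∈ c.U := hZU (hZn n hnQ' v ⟨hUQ hv, c.U_sq v hv, fun q hq => (hcentral q (hQS hq) v hv).symm⟩)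
    have hn2 : Commute (n * n) v := by
      show n * n * v = v * (n * n)
      rcases four_mem c.U_card c.U_sq hw hv hw1 hv1 (Ne.symm hvw) hv' with e | e | e | e
      · exact absurd (conj_eq_one_iff.1 e) hv1
      · exact absurd (by
          calc v = n⁻¹ * v' * n := by simp only [v']; group
            _ = n⁻¹ * (n * w) := by rw [e, hnw]; group
            _ = w := by group) hvw
      · have : n * v = v * n := mul_inv_eq_iff_eq_mul.1 e
        rw [mul_assoc, this, ← mul_assoc, this, mul_assoc]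
      · have e1 : n * v = w * v * n := mul_inv_eq_iff_eq_mul.1 e
        calc n * n * v = n * w * v * n := by rw [mul_assoc, e1]; group
          _ = w * (n * v) * n := by rw [hnw]; group
          _ = w * w * v * (n * n) := by rw [e1]; group
          _ = v * (n * n) := by rw [c.U_sq w hw, one_mul]
    obtain ⟨a, m, hm, hord⟩ := Nat.exists_eq_two_pow_mul_odd (orderOf_pos n).ne'
    let N : Subgroup G := C ⊓ normalizer (Q : Set G)
    have hnN : ∀ g, g * w = w * g → (∀ q ∈ Q, g * q * g⁻¹ ∈ Q) → g ∈ N := fun g hg hgQ =>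
      ⟨hCm.2 hg, (mem_normalizer_iff.2 fun x => ⟨hgQ x, fun hx => by
        have hinj : Function.Injective (fun y : Q => (⟨g * y.1 * g⁻¹, hgQ _ y.2⟩ : Q)) := fun a b e =>
          Subtype.ext (mul_left_cancel (mul_right_cancel (congrArg Subtype.val e)))
        obtain ⟨⟨y, hy⟩, e⟩ := (Finite.injective_iff_surjective.1 hinj) ⟨_, hx⟩
        rwa [← mul_left_cancel (mul_right_cancel (congrArg Subtype.val e))]⟩)⟩
    have hP : IsPGroup 2 (zpowers (n ^ m)) := IsPGroup.of_card (n := a) (by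
      rw [Nat.card_zpowers, orderOf_pow, hord, Nat.gcd_eq_right (dvd_mul_left m _),
        Nat.mul_div_cancel _ hm.pos])
    obtain ⟨d, hd, hdS⟩ := conj_into (S := c.S) (fun s hs => hnN s (hcentral s hs w hw) (hnQ s hs)) hP
      (zpowers_le.2 (pow_mem (hnN n hnw hnQ') m))
    have hdQ : ∀ q ∈ Q, d * q * d⁻¹ ∈ Q := fun q hq => (mem_normalizer_iff.1 hd.2 q).1 hq
    have hdv : d * v * d⁻¹ ∈ c.U :=
      hZU (hZn d hdQ v ⟨hUQ hv, c.U_sq v hv, fun q hq => (hcentral q (hQS hq) v hv).symm⟩)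
    have hm' : Commute (n ^ m) v := by
      have h1 := hcentral _ (hdS _ (mem_zpowers _)) _ hdv
      have h2 : d * (n ^ m * v) * d⁻¹ = d * (v * n ^ m) * d⁻¹ :=
        calc d * (n ^ m * v) * d⁻¹ = d * n ^ m * d⁻¹ * (d * v * d⁻¹) := by group
          _ = d * v * d⁻¹ * (d * n ^ m * d⁻¹) := h1
          _ = d * (v * n ^ m) * d⁻¹ := by group
      exact mul_left_cancel (mul_right_cancel h2)
    obtain ⟨j, rfl⟩ := hm
    have h2 : n ^ (2 * j + 1) = (n * n) ^ j * n := by rw [pow_succ, pow_mul, pow_two]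
    rw [h2] at hm'
    have := ((hn2.pow_left j).inv_left).mul_left hm'
    rwa [inv_mul_cancel_left] at this
  · intro H hH hHn hHodd t ht htH
    set π := QuotientGroup.mk' Kc
    set H' := H.subgroupOf C
    have hn : (H'.map π).Normal := by
      constructor
      rintro _ ⟨g, hg, rfl⟩ x
      obtain ⟨y, rfl⟩ := QuotientGroup.mk'_surjective Kc x
      obtain ⟨k, ⟨k', hk', rfl⟩, n, hnw, hnQ', hy⟩ := hfac y (hCm.1 y.2)
      refine ⟨⟨n, hCm.2 hnw⟩ * g * ⟨n, hCm.2 hnw⟩⁻¹, hHn n hnw hnQ' _ hg, ?_⟩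
      have e : y = k' * ⟨n, hCm.2 hnw⟩ := Subtype.ext hy
      have e1 : π y = π ⟨n, hCm.2 hnw⟩ := by
        rw [e, map_mul, show π k' = 1 from (QuotientGroup.eq_one_iff k').2 hk', one_mul]
      rw [map_mul, map_mul, map_inv, e1]
    have hp : IsPGroup 2 (H'.map π) := by
      rintro ⟨_, g, hg, rfl⟩
      obtain ⟨a, m, hm, hord⟩ := Nat.exists_eq_two_pow_mul_odd (orderOf_pos g).ne'
      refine ⟨a, Subtype.ext ?_⟩
      show (π g) ^ 2 ^ a = 1
      rw [← map_pow]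
      have ho : orderOf (g ^ 2 ^ a) = m := by
        rw [orderOf_pow, hord, Nat.gcd_eq_right (dvd_mul_right _ m), Nat.mul_div_cancel_left _ (by positivity)]
      have hgL : g ^ 2 ^ a ∈ L := hcentL _ fun q hq => hHodd _ (pow_mem hg _)
        (by rw [orderOf_injective C.subtype C.subtype_injective, ho]; exact hm) q hq
      obtain ⟨i, hi⟩ := CfsgLib.isPGroup_pCore (G := C ⧸ Kc) 2 ⟨π (g ^ 2 ^ a), hgL⟩
      refine orderOf_eq_one_iff.1 (Nat.eq_one_of_dvd_coprimes (Nat.Coprime.pow_right i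
        (Nat.coprime_two_right.2 hm)) ((orderOf_map_dvd π _).trans (dvd_of_eq ho)) ?_)
      exact orderOf_dvd_of_pow_eq_one (congrArg Subtype.val hi)
    exact hQmem.2 ⟨hSC ht, CfsgLib.le_pCore hp (mem_map_of_mem π (htH : (⟨t, hSC ht⟩ : C) ∈ H')), ht⟩

/-- The hypotheses from the context. -/
theorem hyp_of_ctx (c : Ctx G) (hcentral : ∀ s ∈ (c.S : Subgroup G), ∀ v ∈ c.U, s * v = v * s) :
    Hyp c.S c.U := by
  have hrank : ∀ A : Subgroup G, A ≤ (c.S : Subgroup G) → (c.S : Subgroup G) ≤ normalizer (A : Set G) →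
      (∀ x ∈ A, ∀ y ∈ A, x * y = y * x) → (∀ x ∈ A, x * x = 1) → Nat.card A ≤ 4 := by
    intro A hA hn hc hsq
    have := c.noEight (A.subgroupOf (c.S : Subgroup G))
      ⟨fun x hx s => (mem_normalizer_iff.1 (hn s.2) _).1 hx⟩
      ⟨⟨fun x y => Subtype.ext (Subtype.ext (hc _ x.2 _ y.2))⟩⟩
      fun x hx => Subtype.ext (by rw [pow_two]; exact hsq _ hx)
    rwa [Nat.card_congr (subgroupOfEquivOfLe hA).toEquiv] at this
  exact ⟨c.U_le, c.U_card, c.U_sq, fun v hv s hs => (hcentral s hs v hv).symm, hrank,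
    fun w hw hw1 => core_of_constrained c hcentral hrank hw hw1⟩

end CfsgLib.NoEightConstrained.CentralFour
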