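import Cfsg.Agent.Lib.NoEightConstrained.CentralFour.Planes

/-!
The Sylow subgroup is an extension of the product of two planes by an element exchanging them.
-/

set_option autoImplicit false
set_option linter.unusedSectionVars false

namespace CfsgLib.NoEightConstrained.CentralFour

open Subgroup
open scoped commutatorElement

universe u

variable {G : Type u} [Group G] [Finite G] {S : Sylow 2 G} {U E F : Subgroup G} {s : G}

theorem le_or_le {H A B : Subgroup G} (h : ∀ x ∈ H, x ∈ A ∨ x ∈ B) : H ≤ A ∨ H ≤ B := by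
  by_contra hno
  push Not at hno
  obtain ⟨a, ha, haA⟩ := Set.not_subset.1 hno.1
  obtain ⟨b, hb, hbB⟩ := Set.not_subset.1 hno.2
  have haB := (h a ha).resolve_left haA
  have hbA := (h b hb).resolve_right hbB
  rcases h _ (H.mul_mem ha hb) with e | e
  · exact haA (by simpa using A.mul_mem e (A.inv_mem hbA))
  · exact hbB (by simpa using B.mul_mem (B.inv_mem haB) e)

/-- A conjugate of an element of `U` in `S`, outside `U`, is moved into a plane by an element centralising `U`. -/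
theorem plane_of_fusion (h : Hyp S U) {v w g : G} (hv : v ∈ (S : Subgroup G)) (hvU : v ∉ U) (hw : w ∈ U)
    (hg : g * w * g⁻¹ = v) :
    ∃ (c : G) (H : Subgroup G), (∀ x ∈ U, c * x = x * c) ∧ Plane S U H ∧ c * v * c⁻¹ ∈ H := by
  set P : Subgroup G := ((S : Subgroup G) ⊓ centralizer ({v} : Set G)).map (MulAut.conj g⁻¹).toMonoidHom
  set Cw := centralizer ({w} : Set G)
  have hSC : (S : Subgroup G) ≤ Cw := fun t ht => mem_centralizer_singleton_iff.2 (h.central w hw t ht).symm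
  have hPC : P ≤ Cw := by
    rintro _ ⟨t, ⟨-, ht⟩, rfl⟩
    refine mem_centralizer_singleton_iff.2 ?_
    have := mem_centralizer_singleton_iff.1 ht
    rw [← hg] at this
    calc g⁻¹ * t * g⁻¹⁻¹ * w = g⁻¹ * (t * (g * w * g⁻¹)) * g := by group
      _ = w * (g⁻¹ * t * g⁻¹⁻¹) := by rw [this]; group
  obtain ⟨d, hd, hdS⟩ := conj_into hSC ((S.2.to_le inf_le_left).map _) hPC
  set g₁ := g * d⁻¹
  have hg₁ : g₁ * w * g₁⁻¹ = v := by
    rw [← hg]
    calc g * d⁻¹ * w * (g * d⁻¹)⁻¹ = g * (d⁻¹ * (w * d)) * g⁻¹ := by group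
      _ = g * w * g⁻¹ := by rw [← mem_centralizer_singleton_iff.1 hd, inv_mul_cancel_left]
  let U' : Subgroup G := U.map (MulAut.conj g₁).toMonoidHom
  have hcomm : ∀ a ∈ U, ∀ b ∈ U', a * b = b * a := by
    rintro a ha _ ⟨b, hb, rfl⟩
    have haS := hdS _ ⟨a, ⟨h.le ha, mem_centralizer_singleton_iff.2 (h.central a ha v hv)⟩, rfl⟩
    have h1 := h.central b hb _ haS
    show a * (g₁ * b * g₁⁻¹) = g₁ * b * g₁⁻¹ * a
    calc a * (g₁ * b * g₁⁻¹) = g₁ * (d * (g⁻¹ * a * g⁻¹⁻¹) * d⁻¹ * b) * g₁⁻¹ := by simp only [g₁]; group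
      _ = g₁ * (b * (d * (g⁻¹ * a * g⁻¹⁻¹) * d⁻¹)) * g₁⁻¹ := by
        rw [show d * (g⁻¹ * a * g⁻¹⁻¹) * d⁻¹ * b = b * (d * (g⁻¹ * a * g⁻¹⁻¹) * d⁻¹) from h1.symm]
      _ = g₁ * b * g₁⁻¹ * a := by simp only [g₁]; group
  have hW : IsPGroup 2 (prodSub U U' hcomm) := fun x => ⟨1, Subtype.ext (by
    show (x : G) ^ 2 ^ 1 = 1
    rw [pow_one, pow_two]
    exact prodSub_sq h.sq (by rintro _ ⟨b, hb, rfl⟩; exact conj_sq g₁ (h.sq b hb)) _ x.2)⟩
  have hSU : (S : Subgroup G) ≤ centralizer (U : Set G) := fun t ht =>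
    mem_centralizer_iff.2 fun a ha => h.central a ha t ht
  have hWC : prodSub U U' hcomm ≤ centralizer (U : Set G) := by
    rintro _ ⟨a, ha, b, hb, rfl⟩
    refine mem_centralizer_iff.2 fun x hx => ?_
    exact ((show Commute x a from h.central x hx a (h.le ha)).mul_right (show Commute x b from hcomm x hx b hb)).eq
  obtain ⟨c, hc, hcS⟩ := conj_into hSU hW hWC
  have hcU : ∀ x ∈ U, c * x = x * c := fun x hx => (mem_centralizer_iff.1 hc x hx).symm
  have hg₂ : ∀ x ∈ U, c * g₁ * x * (c * g₁)⁻¹ ∈ (S : Subgroup G) := fun x hx => by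
    rw [show c * g₁ * x * (c * g₁)⁻¹ = c * (g₁ * x * g₁⁻¹) * c⁻¹ by group]
    exact hcS _ (right_le_prodSub ⟨x, hx, rfl⟩)
  have hne : c * g₁ * w * (c * g₁)⁻¹ ∉ U := fun hU => hvU (by
    have h1 := hcU _ hU
    have e : v = c⁻¹ * (c * g₁ * w * (c * g₁)⁻¹) * c := by rw [← hg₁]; group
    rw [e, mul_assoc, ← h1, inv_mul_cancel_left]
    exact hU)
  obtain ⟨H, hH, hHm⟩ := exists_plane h hg₂ hw hne
  refine ⟨c, H, hcU, hH, ?_⟩
  have := hHm w hw
  rwa [show c * g₁ * w * (c * g₁)⁻¹ = c * (g₁ * w * g₁⁻¹) * c⁻¹ by group, hg₁] at this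

/-- Two planes, their product and an element exchanging them. -/
structure Frame (S : Sylow 2 G) (U E F : Subgroup G) (s : G) : Prop where
  pair : Pair S U E F
  s_mem : s ∈ (S : Subgroup G)
  swap_left : ∀ e ∈ E, s * e * s⁻¹ ∈ F
  swap_right : ∀ f ∈ F, s * f * s⁻¹ ∈ E
  cover : ∀ x ∈ (S : Subgroup G), x ∈ pair.join ∨ s⁻¹ * x ∈ pair.join
  planes : ∀ H : Subgroup G, Plane S U H → H = E ∨ H = F

theorem exists_frame (h : Hyp S U) (hE : Plane S U E) : ∃ (F : Subgroup G) (s : G), Frame S U E F s := by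
  classical
  haveI : Fact (Nat.Prime 2) := ⟨Nat.prime_two⟩
  set N : Subgroup (S : Subgroup G) := (normalizer (E : Set G)).subgroupOf (S : Subgroup G)
  have hN : N < ⊤ := lt_top_iff_ne_top.2 fun e => by
    have := h.rank E hE.le (subgroupOf_eq_top.1 e) (fun x hx y hy => hE.comm hx hy) hE.sq
    rw [hE.card] at this
    omega
  haveI := S.2.isNilpotent
  obtain ⟨⟨s, hs⟩, hsN, hsN'⟩ := SetLike.exists_of_lt (Group.normalizerCondition_of_isNilpotent N hN)
  have hsE : s ∉ normalizer (E : Set G) := hsN'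
  have hT : ∀ t, t ∈ (S : Subgroup G) → t ∈ normalizer (E : Set G) →
      s * t * s⁻¹ ∈ normalizer (E : Set G) ∧ s⁻¹ * t * s ∈ normalizer (E : Set G) := fun t ht hn => by
    refine ⟨(mem_normalizer_iff.1 hsN ⟨t, ht⟩).1 hn, ?_⟩
    have := (mem_normalizer_iff.1 (inv_mem hsN) ⟨t, ht⟩).1 hn
    simpa [N, mem_subgroupOf] using this
  have hEn : ∀ e ∈ E, e ∈ normalizer (E : Set G) := fun e he => le_normalizer he
  set F := E.map (MulAut.conj s).toMonoidHom
  have hF : Plane S U F := hE.map h (fun x hx => mul_mem (mul_mem hs (hE.le hx)) (inv_mem hs))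
    fun v hv => by rw [← h.central v hv s hs, mul_inv_cancel_right]; exact hv
  have hne : E ≠ F := fun e => hsE (mem_normalizer_iff.2 fun x => ⟨fun hx => by
      rw [e]; exact ⟨x, hx, rfl⟩, fun hx => by
      have hx' : s * x * s⁻¹ ∈ F := by rw [← e]; exact hx
      obtain ⟨y, hy, e'⟩ := hx'
      rwa [← mul_left_cancel (mul_right_cancel e')]⟩)
  have hnl : ∀ f ∈ F, ∀ e ∈ E, f * e * f⁻¹ ∈ E := by
    rintro _ ⟨x, hx, rfl⟩ e he
    exact (mem_normalizer_iff.1 (hT x (hE.le hx) (hEn x hx)).1 e).1 he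
  have htF : ∀ t ∈ (S : Subgroup G), t ∈ normalizer (E : Set G) → ∀ f ∈ F, t * f * t⁻¹ ∈ F := by
    rintro t ht hn _ ⟨x, hx, rfl⟩
    refine ⟨s⁻¹ * t * s * x * (s⁻¹ * t * s)⁻¹, (mem_normalizer_iff.1 (hT t ht hn).2 x).1 hx, ?_⟩
    show s * _ * s⁻¹ = t * (s * x * s⁻¹) * t⁻¹
    group
  have P : Pair S U E F := ⟨hE, hF, hne, hnl, fun e he => htF e (hE.le he) (hEn e he)⟩
  have hJ : ∀ t ∈ (S : Subgroup G), t ∈ normalizer (E : Set G) → t ∈ P.join := fun t ht hn =>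
    P.norm_both h ht (fun e he => (mem_normalizer_iff.1 hn e).1 he) (htF t ht hn)
  have hJn : P.join ≤ normalizer (E : Set G) := by
    rintro _ ⟨e, he, f, hf, rfl⟩
    refine mul_mem (hEn e he) (mem_normalizer_iff.2 fun x => ⟨hnl f hf x, fun hx => ?_⟩)
    simpa [mul_assoc] using hnl f⁻¹ (inv_mem hf) _ hx
  have hsw : ∀ f ∈ F, s * f * s⁻¹ ∈ E := by
    have hF' : Plane S U (F.map (MulAut.conj s).toMonoidHom) :=
      hF.map h (fun x hx => mul_mem (mul_mem hs (hF.le hx)) (inv_mem hs))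
        fun v hv => by rw [← h.central v hv s hs, mul_inv_cancel_right]; exact hv
    rcases P.plane_in_join h hF' (by
      rintro _ ⟨f, hf, rfl⟩
      exact hJ _ (mul_mem (mul_mem hs (hF.le hf)) (inv_mem hs))
        (hT f (hF.le hf) (hJn (P.right_le h hf))).1) with e | e
    · intro f hf; rw [← e]; exact ⟨f, hf, rfl⟩
    · exact absurd (Subgroup.map_injective (f := (MulAut.conj s).toMonoidHom) (MulAut.conj s).injective e) hne.symm
  -- the elements of `S` preserving the union of the planes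
  set M : Subgroup G := (S : Subgroup G) ⊓ normalizer ((E : Set G) ∪ (F : Set G))
  have hinjM : ∀ {r : G}, (∀ x, x ∈ E ∨ x ∈ F → r * x * r⁻¹ ∈ E ∨ r * x * r⁻¹ ∈ F) →
      r ∈ normalizer ((E : Set G) ∪ (F : Set G)) := fun {r} hr => mem_normalizer_fintype fun x hx => hr x hx
  have hsM : s ∈ M := ⟨hs, hinjM fun x hx => hx.elim (fun hx => Or.inr ⟨x, hx, rfl⟩) fun hx => Or.inl (hsw x hx)⟩
  have himg : ∀ r ∈ M, E.map (MulAut.conj r).toMonoidHom ≤ E ∨ E.map (MulAut.conj r).toMonoidHom ≤ F := by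
    intro r hr
    refine le_or_le ?_
    rintro _ ⟨x, hx, rfl⟩
    exact (mem_set_normalizer_iff.1 hr.2 x).1 (Or.inl hx)
  have hM : ∀ r ∈ M, r ∈ P.join ∨ s⁻¹ * r ∈ P.join := by
    intro r hr
    have key : ∀ t ∈ (S : Subgroup G), (∀ e ∈ E, t * e * t⁻¹ ∈ E) → t ∈ P.join := fun t ht hte =>
      hJ t ht (mem_normalizer_fintype fun x hx => hte x hx)
    rcases himg r hr with e | e
    · exact Or.inl (key r hr.1 fun x hx => e ⟨x, hx, rfl⟩)
    · refine Or.inr (key _ (mul_mem (inv_mem hs) hr.1) fun x hx => ?_)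
      obtain ⟨y, hy, e'⟩ := e ⟨x, hx, rfl⟩
      have e'' : s * y * s⁻¹ = r * x * r⁻¹ := e'
      rw [show s⁻¹ * r * x * (s⁻¹ * r)⁻¹ = s⁻¹ * (r * x * r⁻¹) * s by group, ← e'',
        show s⁻¹ * (s * y * s⁻¹) * s = y by group]
      exact hy
  have hMplane : ∀ H, Plane S U H → H ≤ M → H = E ∨ H = F := by
    intro H hH hHM
    by_contra hno
    obtain ⟨x, hx, hxJ⟩ : ∃ x ∈ H, x ∉ P.join := by
      by_contra hn
      push Not at hn
      exact hno (P.plane_in_join h hH hn)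
    have hcap : ∀ a ∈ H, a ∈ P.join → a ∈ U := by
      intro a ha haJ
      have hxs : s⁻¹ * x ∈ P.join := (hM x (hHM hx)).resolve_left hxJ
      obtain ⟨e₁, he₁, f₁, hf₁, e'⟩ := (P.mem_join h).1 hxs
      have ex : x = s * (e₁ * f₁) := by rw [← e', mul_inv_cancel_left]
      have hfix : x * a * x⁻¹ = a := by rw [hH.comm hx ha, mul_inv_cancel_right]
      rcases P.invol_mem h haJ (hH.sq a ha) with haE | haF
      · refine P.inter h haE ?_
        rw [← hfix, ex, show s * (e₁ * f₁) * a * (s * (e₁ * f₁))⁻¹ = s * (e₁ * (f₁ * a * f₁⁻¹) * e₁⁻¹) * s⁻¹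
          by group]
        exact ⟨_, mul_mem (mul_mem he₁ (hnl f₁ hf₁ a haE)) (inv_mem he₁), rfl⟩
      · refine P.inter h ?_ haF
        rw [← hfix, ex, show s * (e₁ * f₁) * a * (s * (e₁ * f₁))⁻¹ = s * (e₁ * (f₁ * a * f₁⁻¹) * e₁⁻¹) * s⁻¹
          by group]
        exact hsw _ (P.norm_right e₁ he₁ _ (mul_mem (mul_mem hf₁ haF) (inv_mem hf₁)))
    obtain ⟨g, hg, hd⟩ := hH.gen
    obtain ⟨v₁, hv₁, v₂, hv₂, h1, h2, h12⟩ : ∃ v₁ ∈ U, ∃ v₂ ∈ U, v₁ ≠ 1 ∧ v₂ ≠ 1 ∧ v₁ ≠ v₂ := by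
      have hc3 : 2 < Nat.card U := by rw [h.card]; norm_num
      letI := Fintype.ofFinite U
      rw [Nat.card_eq_fintype_card, ← Finset.card_univ, Finset.two_lt_card] at hc3
      obtain ⟨a, -, b, -, c, -, hab, hac, hbc⟩ := hc3
      by_cases ha : a = 1
      · subst ha
        exact ⟨b, b.2, c, c.2, fun e => hab (Subtype.ext e).symm, fun e => hac (Subtype.ext e).symm,
          fun e => hbc (Subtype.ext e)⟩
      · by_cases hb : b = 1
        · subst hb
          exact ⟨a, a.2, c, c.2, fun e => ha (Subtype.ext e), fun e => hbc (Subtype.ext e).symm,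
            fun e => hac (Subtype.ext e)⟩
        · exact ⟨a, a.2, b, b.2, fun e => ha (Subtype.ext e), fun e => hb (Subtype.ext e),
            fun e => hab (Subtype.ext e)⟩
    have hout : ∀ v ∈ U, v ≠ 1 → g * v * g⁻¹ ∉ P.join := fun v hv hv1 hJ' =>
      hv1 (hd v hv (hcap _ (hg v hv) hJ'))
    have hs₁ := (hM _ (hHM (hg v₁ hv₁))).resolve_left (hout v₁ hv₁ h1)
    have hs₂ := (hM _ (hHM (hg v₂ hv₂))).resolve_left (hout v₂ hv₂ h2)
    refine hout _ (U.mul_mem (U.inv_mem hv₁) hv₂) (fun e => h12 (inv_mul_eq_one.1 e)) ?_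
    rw [show g * (v₁⁻¹ * v₂) * g⁻¹ = (s⁻¹ * (g * v₁ * g⁻¹))⁻¹ * (s⁻¹ * (g * v₂ * g⁻¹)) by group]
    exact mul_mem (inv_mem hs₁) hs₂
  have hMS : M = (S : Subgroup G) := by
    by_contra hne'
    have hlt : M.subgroupOf (S : Subgroup G) < ⊤ := lt_top_iff_ne_top.2 fun e =>
      hne' (le_antisymm inf_le_left (subgroupOf_eq_top.1 e))
    obtain ⟨⟨r, hr⟩, hrN, hrN'⟩ := SetLike.exists_of_lt (Group.normalizerCondition_of_isNilpotent _ hlt)
    have hrM : ∀ {H : Subgroup G}, Plane S U H → H ≤ M →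
        H.map (MulAut.conj r).toMonoidHom = E ∨ H.map (MulAut.conj r).toMonoidHom = F := fun {H} hH hHM => by
      refine hMplane _ (hH.map h (fun x hx => mul_mem (mul_mem hr (hH.le hx)) (inv_mem hr))
        fun v hv => by rw [← h.central v hv r hr, mul_inv_cancel_right]; exact hv) ?_
      rintro _ ⟨x, hx, rfl⟩
      exact (mem_normalizer_iff.1 hrN ⟨x, hH.le hx⟩).1 (hHM hx)
    have hEM : ∀ {H : Subgroup G}, H ≤ P.join → H ≤ M := fun {H} hHJ x hx => by
      obtain ⟨e, he, f, hf, rfl⟩ := hHJ hx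
      refine ⟨mul_mem (hE.le he) (hF.le hf), hinjM ?_⟩
      rintro y (hy | hy)
      · refine Or.inl ?_
        rw [show e * f * y * (e * f)⁻¹ = e * (f * y * f⁻¹) * e⁻¹ by group]
        exact mul_mem (mul_mem he (hnl f hf y hy)) (inv_mem he)
      · refine Or.inr ?_
        rw [show e * f * y * (e * f)⁻¹ = e * (f * y * f⁻¹) * e⁻¹ by group]
        exact P.norm_right e he _ (mul_mem (mul_mem hf hy) (inv_mem hf))
    refine hrN' (mem_subgroupOf.2 ⟨hr, hinjM ?_⟩)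
    rintro y (hy | hy)
    · rcases hrM hE (hEM (P.left_le h)) with e | e
      · exact Or.inl (e ▸ ⟨y, hy, rfl⟩)
      · exact Or.inr (e ▸ ⟨y, hy, rfl⟩)
    · rcases hrM hF (hEM (P.right_le h)) with e | e
      · exact Or.inl (e ▸ ⟨y, hy, rfl⟩)
      · exact Or.inr (e ▸ ⟨y, hy, rfl⟩)
  exact ⟨F, s, P, hs, fun e he => ⟨e, he, rfl⟩, hsw, fun x hx => hM x (hMS ▸ hx),
    fun H hH => hMplane H hH (hMS ▸ hH.le)⟩

end CfsgLib.NoEightConstrained.CentralFour
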