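import Cfsg.Agent.Lib.NoEightConstrained.CentralFour.Closed

/-!
The core of the centraliser of an involution of `U` is the product of the two planes or the Sylow subgroup.
-/

set_option autoImplicit false
set_option linter.unusedSectionVars false

namespace CfsgLib.NoEightConstrained.CentralFour

open Subgroup
open scoped commutatorElement

universe u

variable {G : Type u} [Group G] [Finite G] {S : Sylow 2 G} {U E F : Subgroup G} {s : G}

theorem normalizes_mul {Q : Subgroup G} {a b : G} (ha : ∀ q ∈ Q, a * q * a⁻¹ ∈ Q)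
    (hb : ∀ q ∈ Q, b * q * b⁻¹ ∈ Q) : ∀ q ∈ Q, a * b * q * (a * b)⁻¹ ∈ Q := fun q hq => by
  rw [show a * b * q * (a * b)⁻¹ = a * (b * q * b⁻¹) * a⁻¹ by group]
  exact ha _ (hb q hq)

theorem centralises_mul {w a b : G} (ha : a * w = w * a) (hb : b * w = w * b) : a * b * w = w * (a * b) :=
  ((show Commute a w from ha).mul_left (show Commute b w from hb)).eq

theorem centralises_inv {w a : G} (ha : a * w = w * a) : a⁻¹ * w = w * a⁻¹ :=
  ((show Commute a w from ha).inv_left).eq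

namespace Frame

variable (h : Hyp S U) (Fr : Frame S U E F s)
include h Fr

/-- A normalising element fixing `U` keeps the product. -/
theorem join_stable {n : G} (hn : ∀ x ∈ (S : Subgroup G), n * x * n⁻¹ ∈ (S : Subgroup G))
    (hnU : ∀ v ∈ U, n * v * n⁻¹ ∈ U) {x : G} (hx : x ∈ Fr.pair.join) : n * x * n⁻¹ ∈ Fr.pair.join := by
  have himg : ∀ {H : Subgroup G}, Plane S U H → ∀ z ∈ H, n * z * n⁻¹ ∈ Fr.pair.join := by
    intro H hH z hz
    have hm : n * z * n⁻¹ ∈ H.map (MulAut.conj n).toMonoidHom := ⟨z, hz, rfl⟩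
    rcases Fr.planes _ (hH.map h (fun x hx => hn x (hH.le hx)) hnU) with e | e <;> rw [e] at hm
    exacts [Fr.pair.left_le h hm, Fr.pair.right_le h hm]
  obtain ⟨e, he, f, hf, rfl⟩ := (Fr.pair.mem_join h).1 hx
  rw [show n * (e * f) * n⁻¹ = n * e * n⁻¹ * (n * f * n⁻¹) by group]
  exact mul_mem (himg Fr.pair.left e he) (himg Fr.pair.right f hf)

theorem core_cases {w : G} (hw : w ∈ U) {K Q : Subgroup G} (hC : Core S U w K Q) :
    Q = Fr.pair.join ∨ Q = (S : Subgroup G) := by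
  have hJS := Fr.pair.join_le h
  have hcw : ∀ t ∈ (S : Subgroup G), t * w = w * t := fun t ht => (h.central w hw t ht).symm
  by_cases hQJ : Q ≤ Fr.pair.join
  · refine Or.inl (le_antisymm hQJ ?_)
    let p : G → Prop := fun g => g * w = w * g ∧ (∀ q ∈ Q, g * q * g⁻¹ ∈ Q) ∧ ∀ q ∈ Q, g * q * g⁻¹ * q⁻¹ ∈ U
    have hmul : ∀ a b, p a → p b → p (a * b) := by
      rintro a b ⟨ha, haQ, haU⟩ ⟨hb, hbQ, hbU⟩
      refine ⟨centralises_mul ha hb, normalizes_mul haQ hbQ, fun q hq => ?_⟩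
      rw [show a * b * q * (a * b)⁻¹ * q⁻¹ = a * (b * q * b⁻¹ * q⁻¹) * a⁻¹ * (a * q * a⁻¹ * q⁻¹) by group,
        hC.fix a ha haQ _ (hbU q hq), mul_inv_cancel_right]
      exact mul_mem (hbU q hq) (haU q hq)
    let H := finSub p ⟨by rw [one_mul, mul_one], fun q hq => by simpa, fun q _ => by simp⟩ hmul
    intro x hx
    refine hC.radical H (fun g hg => ⟨hg.1, hg.2.1⟩) ?_ ?_ x (hJS hx)
      ⟨hcw x (hJS hx), hC.norm_S x (hJS hx), fun q hq => Fr.pair.comm_U h hx (hQJ hq)⟩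
    · rintro n hnw hnQ g ⟨hg, hgQ, hgU⟩
      have hn' : ∀ q ∈ Q, n⁻¹ * q * n⁻¹⁻¹ ∈ Q := fun q hq => by rw [inv_inv]; exact inv_conj hnQ hq
      refine ⟨centralises_mul (centralises_mul hnw hg) (centralises_inv hnw),
        normalizes_mul (normalizes_mul hnQ hgQ) hn', fun q hq => ?_⟩
      rw [show n * g * n⁻¹ * q * (n * g * n⁻¹)⁻¹ * q⁻¹ =
        n * (g * (n⁻¹ * q * n) * g⁻¹ * (n⁻¹ * q * n)⁻¹) * n⁻¹ by group]
      have hu := hgU _ (inv_conj hnQ hq)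
      rw [hC.fix n hnw hnQ _ hu, mul_inv_cancel_right]
      exact hu
    · rintro g ⟨hg, hgQ, hgU⟩ ho q hq
      refine odd_fix (d := g * q * g⁻¹ * q⁻¹) (by group) (hC.fix g hg hgQ _ (hgU q hq)) ?_ ho
      rw [h.sq _ (hgU q hq), one_mul]
  · refine Or.inr (le_antisymm hC.le ?_)
    obtain ⟨y, hyQ, hyJ⟩ := Set.not_subset.1 hQJ
    have hy : y ∈ (S : Subgroup G) := hC.le hyQ
    have hDQ := Fr.D_le h hC.norm_S hC.U_le hy hyQ hyJ
    have hst : ∀ {g : G}, g * w = w * g → (∀ q ∈ Q, g * q * g⁻¹ ∈ Q) → ∀ d ∈ Fr.D h, g * d * g⁻¹ ∈ Fr.D h :=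
      fun hg hgQ _ hd => Fr.D_stable h hC.le hyQ hyJ hDQ hgQ (hC.fix _ hg hgQ) hd
    let p : G → Prop := fun g => g * w = w * g ∧ (∀ q ∈ Q, g * q * g⁻¹ ∈ Q) ∧
      (∀ d ∈ Fr.D h, g * d * g⁻¹ * d⁻¹ ∈ U) ∧ ∀ q ∈ Q, g * q * g⁻¹ * q⁻¹ ∈ Fr.D h
    have hmul : ∀ a b, p a → p b → p (a * b) := by
      rintro a b ⟨ha, haQ, haU, haD⟩ ⟨hb, hbQ, hbU, hbD⟩
      refine ⟨centralises_mul ha hb, normalizes_mul haQ hbQ, fun d hd => ?_, fun q hq => ?_⟩
      · rw [show a * b * d * (a * b)⁻¹ * d⁻¹ = a * (b * d * b⁻¹ * d⁻¹) * a⁻¹ * (a * d * a⁻¹ * d⁻¹) by group,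
          hC.fix a ha haQ _ (hbU d hd), mul_inv_cancel_right]
        exact mul_mem (hbU d hd) (haU d hd)
      · rw [show a * b * q * (a * b)⁻¹ * q⁻¹ = a * (b * q * b⁻¹ * q⁻¹) * a⁻¹ * (a * q * a⁻¹ * q⁻¹) by group]
        exact mul_mem (hst ha haQ _ (hbD q hq)) (haD q hq)
    let H := finSub p ⟨by rw [one_mul, mul_one], fun q hq => by simpa, fun q _ => by simp, fun q _ => by simp⟩ hmul
    have hsmall : Fr.pair.join ≤ Q := by
      intro x hx
      refine hC.radical H (fun g hg => ⟨hg.1, hg.2.1⟩) ?_ ?_ x (hJS hx) ⟨hcw x (hJS hx), hC.norm_S x (hJS hx),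
        fun d hd => Fr.pair.comm_U h hx hd.1, fun q hq => ?_⟩
      · rintro n hnw hnQ g ⟨hg, hgQ, hgU, hgD⟩
        have hnw' := centralises_inv hnw
        have hn' : ∀ q ∈ Q, n⁻¹ * q * n⁻¹⁻¹ ∈ Q := fun q hq => by rw [inv_inv]; exact inv_conj hnQ hq
        refine ⟨centralises_mul (centralises_mul hnw hg) hnw', normalizes_mul (normalizes_mul hnQ hgQ) hn',
          fun d hd => ?_, fun q hq => ?_⟩
        · rw [show n * g * n⁻¹ * d * (n * g * n⁻¹)⁻¹ * d⁻¹ =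
            n * (g * (n⁻¹ * d * n⁻¹⁻¹) * g⁻¹ * (n⁻¹ * d * n⁻¹⁻¹)⁻¹) * n⁻¹ by group]
          have hu := hgU _ (hst hnw' hn' d hd)
          rw [hC.fix n hnw hnQ _ hu, mul_inv_cancel_right]
          exact hu
        · rw [show n * g * n⁻¹ * q * (n * g * n⁻¹)⁻¹ * q⁻¹ =
            n * (g * (n⁻¹ * q * n) * g⁻¹ * (n⁻¹ * q * n)⁻¹) * n⁻¹ by group]
          exact hst hnw hnQ _ (hgD _ (inv_conj hnQ hq))
      · rintro g ⟨hg, hgQ, hgU, hgD⟩ ho q hq
        refine odd_fix (d := g * q * g⁻¹ * q⁻¹) (by group) ?_ (Fr.D_sq h (hgD q hq)) ho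
        refine odd_fix (d := g * (g * q * g⁻¹ * q⁻¹) * g⁻¹ * (g * q * g⁻¹ * q⁻¹)⁻¹) (by group)
          (hC.fix g hg hgQ _ (hgU _ (hgD q hq))) ?_ ho
        rw [h.sq _ (hgU _ (hgD q hq)), one_mul]
      · by_cases hqJ : q ∈ Fr.pair.join
        · exact Fr.U_le_D h (Fr.pair.comm_U h hx hqJ)
        · have h1 := inv_mem (Fr.mul_conj_mem_D h (hC.le hq) hqJ hx)
          rwa [show x * q * x⁻¹ * q⁻¹ = (q * x * q⁻¹ * x⁻¹)⁻¹ by group]
    intro t ht
    rcases Fr.cover t ht with h1 | h1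
    · exact hsmall h1
    · have hyc := hsmall ((Fr.cover y hy).resolve_left hyJ)
      have hsQ : s ∈ Q := by
        have := mul_mem hyQ (inv_mem hyc)
        rwa [_root_.mul_inv_rev, inv_inv, mul_inv_cancel_left] at this
      have := mul_mem hsQ (hsmall h1)
      rwa [mul_inv_cancel_left] at this

/-- Fusion centralising an involution of `U` keeps the product. -/
theorem closed {w : G} (hw : w ∈ U) (hw1 : w ≠ 1) {a : G} (ha : a * w = w * a) {x : G}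
    (hx : x ∈ Fr.pair.join) (hax : a * x * a⁻¹ ∈ (S : Subgroup G)) : a * x * a⁻¹ ∈ Fr.pair.join := by
  obtain ⟨K, Q, hC⟩ := h.loc w hw hw1
  obtain ⟨k, hk, n, hnw, hnQ, rfl⟩ := hC.factor a ha
  have hx' : n * x * n⁻¹ ∈ Fr.pair.join := by
    rcases Fr.core_cases h hw hC with e | e
    · exact e ▸ hnQ x (e ▸ hx)
    · exact Fr.join_stable h (fun y hy => e ▸ hnQ y (e ▸ hy))
        (fun v hv => by rw [hC.fix n hnw hnQ v hv, mul_inv_cancel_right]; exact hv) hx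
  set x' := n * x * n⁻¹
  have hx'S := Fr.pair.join_le h hx'
  have e : k * n * x * (k * n)⁻¹ = k * x' * k⁻¹ := by simp only [x']; group
  rw [e] at hax ⊢
  have h1 : k * x' * k⁻¹ * x'⁻¹ = 1 := by
    refine eq_one_of_odd hC.odd ?_ (mul_mem hax (inv_mem hx'S))
    rw [show k * x' * k⁻¹ * x'⁻¹ = k * (x' * k⁻¹ * x'⁻¹) by group]
    exact mul_mem hk (hC.norm x' (h.central w hw x' hx'S).symm _ (inv_mem hk))
  rw [mul_inv_eq_one.1 h1]
  exact hx'

end Frame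

end CfsgLib.NoEightConstrained.CentralFour
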