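import Cfsg.Agent.Lib.NoEightConstrained.CentralFour.Fusion
import Cfsg.Agent.Lib.NoEightConstrained.CentralFour.Derive
import Cfsg.Agent.Lib.GoldStruct.Fine
import Cfsg.Agent.Lib.Transfer
import Cfsg.Agent.Lib.JTType.Sign

/-!
A central four-group in the Sylow subgroup is impossible (part P2 of `blueprint/S3272.md`).

A four-group that is not strongly closed gives two planes exchanged in `S`; their product is strongly
closed with respect to the elements whose squares lie in `U`, and the transfer gives a subgroup of index two.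
-/

set_option autoImplicit false
set_option linter.unusedSectionVars false

namespace CfsgLib.NoEightConstrained.CentralFour

open Subgroup
open scoped commutatorElement

universe u

variable {G : Type u} [Group G] [Finite G] {S : Sylow 2 G} {U E F : Subgroup G} {s : G}

theorem ctwo_facts : Multiplicative.ofAdd (1 : ZMod 2) ≠ 1 ∧
    Multiplicative.ofAdd (1 : ZMod 2) * Multiplicative.ofAdd 1 = 1 := by decide

namespace Frame

variable (h : Hyp S U) (Fr : Frame S U E F s)
include h Fr

/-- Conjugates of involutions of `U` in `S` lie in the product. -/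
theorem conj_mem {v w g : G} (hv : v ∈ (S : Subgroup G)) (hw : w ∈ U) (hg : g * w * g⁻¹ = v) :
    v ∈ Fr.pair.join := by
  by_cases hvU : v ∈ U
  · exact Fr.pair.U_le_join h hvU
  obtain ⟨c, H, hc, hH, hm⟩ := plane_of_fusion h hv hvU hw hg
  have hw1 : w ≠ 1 := by
    rintro rfl
    exact hvU (by rw [← hg, mul_one, mul_inv_cancel]; exact one_mem _)
  have hin : c * v * c⁻¹ ∈ Fr.pair.join := by
    rcases Fr.planes H hH with rfl | rfl
    exacts [Fr.pair.left_le h hm, Fr.pair.right_le h hm]
  have e : c⁻¹ * (c * v * c⁻¹) * c⁻¹⁻¹ = v := by group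
  have := Fr.closed h hw hw1 (centralises_inv (hc w hw)) hin (by rw [e]; exact hv)
  rwa [e] at this

/-- An element outside the product with square in `U`. -/
theorem exists_outer : ∃ y ∈ (S : Subgroup G), y ∉ Fr.pair.join ∧ y * y ∈ U := by
  obtain ⟨e, he, f, hf, hss⟩ := (Fr.pair.mem_join h).1 (Fr.ss_mem h)
  have hy : s * e ∈ (S : Subgroup G) := mul_mem Fr.s_mem (Fr.pair.left.le he)
  refine ⟨s * e, hy, fun hJ => Fr.s_not_join h (by
    have := mul_mem hJ (inv_mem (Fr.pair.left_le h he))
    rwa [mul_inv_cancel_right] at this), ?_⟩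
  set e' := s * e * s⁻¹
  have he' : e' ∈ F := Fr.swap_left e he
  -- the square lies in the product and commutes with the exchange
  have hD : s * s ∈ Fr.D h := (Fr.mem_D h).2 ⟨Fr.ss_mem h, by
    rw [show s * (s * s) * s⁻¹ * (s * s)⁻¹ = 1 by group]; exact one_mem _⟩
  have hee : (e * e')⁻¹ * (s * s) ∈ Fr.D h := by
    refine mul_mem (inv_mem ?_) hD
    have := inv_mem (Fr.mul_conj_mem_D h Fr.s_mem (Fr.s_not_join h) (Fr.pair.left_le h he))
    rwa [_root_.mul_inv_rev, inv_inv, inv_of_sq (conj_sq s (Fr.pair.left.sq e he))] at this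
  set g := e'⁻¹ * f
  have hgF : g ∈ F := mul_mem (inv_mem he') hf
  have hgg : g = (e * e')⁻¹ * (s * s) := by rw [hss]; simp only [g]; group
  have hgU : g ∈ U := by
    refine Fr.pair.inter h ?_ hgF
    obtain ⟨-, h2⟩ := (Fr.mem_D h).1 (hgg.symm ▸ hee)
    rw [show g = (s * g * s⁻¹ * g⁻¹)⁻¹ * (s * g * s⁻¹) by group]
    exact mul_mem (Fr.pair.left.Ule (inv_mem h2)) (Fr.swap_right g hgF)
  have hsq : s * e * (s * e) = e' * e * e' * e * (e⁻¹ * g * e) := by
    calc s * e * (s * e) = e' * (s * s) * e := by simp only [e']; group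
      _ = e' * (e * f) * e := by rw [hss]
      _ = e' * e * e' * e * (e⁻¹ * g * e) := by simp only [g]; group
  have hgc : Commute g e := h.central g hgU e (Fr.pair.left.le he)
  rw [hsq, mul_assoc e⁻¹, hgc.eq, inv_mul_cancel_left]
  refine mul_mem ?_ hgU
  rw [show e' * e * e' * e = e' * e * (e' * e) by group]
  exact Fr.pair.sq_mem h (mul_mem (Fr.pair.right_le h he') (Fr.pair.left_le h he))

/-- The outer element has no conjugate in the product. -/
theorem conj_outer {y : G} (hy : y ∈ (S : Subgroup G)) (hyJ : y ∉ Fr.pair.join) (hy2 : y * y ∈ U) {g : G}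
    (hg : g * y * g⁻¹ ∈ (S : Subgroup G)) : g * y * g⁻¹ ∉ Fr.pair.join := by
  haveI : Fact (Nat.Prime 2) := ⟨Nat.prime_two⟩
  intro hj
  set j := g * y * g⁻¹
  have hy1 : y ≠ 1 := fun e => hyJ (e ▸ one_mem _)
  by_cases h1 : y * y = 1
  · have hj2 : j * j = 1 := conj_sq g h1
    by_cases hjU : j ∈ U
    · exact hyJ (Fr.conj_mem h hy hjU (g := g⁻¹) (by simp only [j]; group))
    · obtain ⟨c, v, hv, -, hc⟩ := Fr.pair.five_join h hj hj2 hjU
      exact hyJ (Fr.conj_mem h hy hv (g := g⁻¹ * c) (by
        rw [show g⁻¹ * c * v * (g⁻¹ * c)⁻¹ = g⁻¹ * (c * v * c⁻¹) * g by group, hc]; simp only [j]; group))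
  · set u := y * y
    set u' := j * j
    have hu' : u' ∈ U := Fr.pair.sq_mem h hj
    have hju : g * u * g⁻¹ = u' := by simp only [u, u', j]; group
    have hfix : ∀ {x : G}, x ∈ U → ∀ a ∈ (S : Subgroup G), ∀ z ∈ ({x} : Set G), a * z * a⁻¹ ∈ ({x} : Set G) := by
      rintro x hx a ha z rfl
      rw [← h.central z hx a ha, mul_inv_cancel_right]
      rfl
    obtain ⟨n, hn, hnu⟩ := CfsgLib.Transfer.exists_normalizer_conj_of_normal_subsets S {u} {u'}
      (hfix hy2) (hfix hu') (g := g) (by rw [Set.image_singleton, hju])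
    rw [Set.image_singleton, Set.singleton_eq_singleton_iff] at hnu
    have hnS : ∀ {m : G}, m ∈ normalizer ((S : Subgroup G) : Set G) → ∀ x ∈ (S : Subgroup G), m * x * m⁻¹ ∈ (S : Subgroup G) :=
      fun hm x hx => (mem_normalizer_iff.1 hm x).1 hx
    have hnU : ∀ {m : G}, m ∈ normalizer ((S : Subgroup G) : Set G) → ∀ v ∈ U, m * v * m⁻¹ ∈ U := fun {m} hm v hv => by
      refine h.inter_eq (hnS hm v (h.le hv)) (conj_sq m (h.sq v hv)) fun t ht => ?_
      have ht' : m⁻¹ * t * m ∈ (S : Subgroup G) := by simpa using hnS (inv_mem hm) t ht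
      calc m * v * m⁻¹ * t = m * (v * (m⁻¹ * t * m)) * m⁻¹ := by group
        _ = m * (m⁻¹ * t * m * v) * m⁻¹ := by rw [h.central v hv _ ht']
        _ = t * (m * v * m⁻¹) := by group
    set y' := n * y * n⁻¹
    have hy'J : y' ∉ Fr.pair.join := fun hJ => hyJ (by
      have := Fr.join_stable h (hnS (inv_mem hn)) (hnU (inv_mem hn)) hJ
      rwa [show n⁻¹ * y' * n⁻¹⁻¹ = y by simp only [y']; group] at this)
    have hu1 : u' ≠ 1 := fun e => h1 (by rwa [← hju, conj_eq_one_iff] at e)
    have e : n * g⁻¹ * j * (n * g⁻¹)⁻¹ = y' := by simp only [y', j]; group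
    have hfix' : n * g⁻¹ * u' = u' * (n * g⁻¹) := by
      conv_rhs => rw [← hnu]
      rw [← hju]
      group
    refine hy'J ?_
    have := Fr.closed h hu' hu1 hfix' hj (by rw [e]; exact hnS hn y hy)
    rwa [e] at this

/-- The frame is impossible in a simple group. -/
theorem false [IsSimpleGroup G] (hG : ¬ IsMulCommutative G) : False := by
  classical
  haveI : Fact (Nat.Prime 2) := ⟨Nat.prime_two⟩
  obtain ⟨y, hy, hyJ, hy2⟩ := Fr.exists_outer h
  have ha0 := ctwo_facts
  let a : Multiplicative (ZMod 2) := Multiplicative.ofAdd 1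
  have ha : a ≠ 1 := ha0.1
  have haa : a * a = 1 := ha0.2
  let χ : (S : Subgroup G) →* Multiplicative (ZMod 2) :=
    { toFun := fun x => if (x : G) ∈ Fr.pair.join then 1 else a
      map_one' := by simp [one_mem]
      map_mul' := fun x z => by
        show (if (x : G) * z ∈ Fr.pair.join then _ else _) = _
        by_cases hx : (x : G) ∈ Fr.pair.join <;> by_cases hz : (z : G) ∈ Fr.pair.join
        · rw [if_pos (mul_mem hx hz), if_pos hx, if_pos hz, one_mul]
        · rw [if_neg fun hm => hz (by simpa using mul_mem (inv_mem hx) hm), if_pos hx, if_neg hz, one_mul]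
        · rw [if_neg fun hm => hx (by simpa using mul_mem hm (inv_mem hz)), if_neg hx, if_pos hz, mul_one]
        · obtain ⟨i, hi, e1⟩ := Fr.outer h x.2 hx
          obtain ⟨k, hk, e2⟩ := Fr.outer h z.2 hz
          have hm : (x : G) * z ∈ Fr.pair.join := by
            rw [e1, e2, show s * i * (s * k) = s * i * s⁻¹ * (s * s) * k by group]
            exact mul_mem (mul_mem (Fr.s_norm h hi) (Fr.ss_mem h)) hk
          rw [if_pos hm, if_neg hx, if_neg hz, haa] }
  have hχ : ∀ x : (S : Subgroup G), χ x = if (x : G) ∈ Fr.pair.join then 1 else a := fun _ => rfl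
  haveI := Fintype.ofFinite (Quotient (MulAction.orbitRel (Subgroup.zpowers y) (G ⧸ (S : Subgroup G))))
  have h1 := CfsgLib.JT.hom_trivial hG χ.transfer y
  rw [MonoidHom.transfer_eq_prod_quotient_orbitRel_zpowers_quot] at h1
  rw [Finset.prod_congr rfl (g := fun q => a ^ Function.minimalPeriod (y • ·) q.out) fun q _ => ?_,
    Finset.prod_pow_eq_pow_sum] at h1
  swap
  · set r := Function.minimalPeriod (y • ·) q.out with hr
    have hdvd : r ∣ 4 := by
      refine Function.IsPeriodicPt.minimalPeriod_dvd ?_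
      show y • y • y • y • q.out = q.out
      rw [smul_smul, smul_smul, smul_smul, show y * y * y * y = y * y * (y * y) by group, h.sq _ hy2, one_smul]
    have hr' : r = 1 ∨ r = 2 ∨ r = 4 := by
      have hm : r ∈ Nat.divisors 4 := Nat.mem_divisors.2 ⟨hdvd, by norm_num⟩
      rw [show Nat.divisors 4 = {1, 2, 4} from by decide] at hm
      simpa using hm
    have hmem : ∀ (z : (S : Subgroup G)), (z : G) = q.out.out⁻¹ * y ^ r * q.out.out → χ z = a ^ r := by
      intro z hz
      rcases hr' with e | e | e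
      · rw [e, pow_one] at hz ⊢
        rw [hχ, if_neg]
        have := Fr.conj_outer h hy hyJ hy2 (g := q.out.out⁻¹) (by rw [inv_inv, ← hz]; exact z.2)
        rwa [inv_inv, ← hz] at this
      · rw [e, pow_two] at hz ⊢
        rw [haa, hχ, if_pos]
        exact Fr.conj_mem h z.2 hy2 (g := q.out.out⁻¹) (by rw [inv_inv, hz])
      · rw [e, show y ^ 4 = y * y * (y * y) by simp only [pow_succ, pow_zero, one_mul, mul_assoc], h.sq _ hy2, mul_one, inv_mul_cancel] at hz
        rw [e, show z = 1 from Subtype.ext hz, map_one, show (4 : ℕ) = 2 * 2 from rfl, pow_mul, pow_two a, haa,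
          one_pow]
    exact hmem _ rfl
  rw [← Subgroup.index_eq_sum_minimalPeriod] at h1
  obtain ⟨l, hl⟩ : Odd (S : Subgroup G).index := by
    rw [← Nat.not_even_iff_odd, even_iff_two_dvd]
    exact S.not_dvd_index
  rw [hl, pow_succ, pow_mul, sq, haa, one_pow, one_mul] at h1
  exact ha h1

end Frame

/-- A central four-group is impossible when some involution of `S` lies outside it. -/
theorem central_four_false [IsSimpleGroup G] (hG : ¬ IsMulCommutative G) (h : Hyp S U)
    (hx : ∃ x ∈ (S : Subgroup G), x * x = 1 ∧ x ∉ U) : False := by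
  haveI : Fact (Nat.Prime 2) := ⟨Nat.prime_two⟩
  by_cases hcl : ∀ v ∈ U, ∀ g : G, g * v * g⁻¹ ∈ (S : Subgroup G) → g * v * g⁻¹ ∈ U
  · have hne : U ≠ ⊥ := fun e => by
      have := h.card
      rw [e, Subgroup.card_bot] at this
      norm_num at this
    have hc : IsMulCommutative U :=
      ⟨⟨fun a b => Subtype.ext (comm_of_sq h.sq a.2 b.2)⟩⟩
    obtain ⟨x, hxS, hx2, hxU⟩ := hx
    refine hxU (h.inter_eq hxS hx2 fun t ht => ?_)
    exact ((GoldStruct.fine_of_closed hG S U hne hc ⟨h.le, hcl⟩).2 S).loc.central x hxS hx2 t ht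
  · push Not at hcl
    obtain ⟨w, hw, g, hg, hgU⟩ := hcl
    obtain ⟨c, E, -, hE, -⟩ := plane_of_fusion h hg hgU hw rfl
    obtain ⟨F, s, Fr⟩ := exists_frame h hE
    exact Fr.false h hG

end CfsgLib.NoEightConstrained.CentralFour

namespace CfsgLib.NoEightConstrained.Ctx

open Subgroup

universe u

variable {G : Type u} [Group G] [Finite G]

/-- The four-group of the setting is not central in the Sylow subgroup. -/
theorem not_central (c : Ctx G) : ¬ ∀ s ∈ (c.S : Subgroup G), ∀ v ∈ c.U, s * v = v * s := by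
  intro hcentral
  haveI := c.simple
  refine CentralFour.central_four_false c.hna (CentralFour.hyp_of_ctx c hcentral) ?_
  by_contra hno
  push Not at hno
  refine c.rank3 fun A _ hA => ?_
  calc Nat.card A ≤ Nat.card c.U := Nat.card_le_card_of_injective
        (fun a : A => (⟨((a : ↥(c.S : Subgroup G)) : G), hno _ a.1.2 (by
          have := hA a.1 a.2
          rw [pow_two] at this
          exact congrArg Subtype.val this)⟩ : c.U))
        fun a b e => Subtype.ext (Subtype.ext (congrArg (fun z : c.U => (z : G)) e))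
    _ ≤ 2 ^ 2 := by rw [c.U_card]; norm_num

end CfsgLib.NoEightConstrained.Ctx
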