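import Cfsg.Agent.Lib.NoEightConstrained.CentralFour.Basic

/-!
# Elementary subgroups of order sixteen spanned by two conjugates of the central four-group
-/

set_option autoImplicit false
set_option linter.unusedSectionVars false

namespace CfsgLib.NoEightConstrained.CentralFour

open Subgroup
open scoped commutatorElement

universe u

variable {G : Type u} [Group G] [Finite G] {S : Sylow 2 G} {U E F : Subgroup G}

theorem conj_sq {x : G} (g : G) (hx : x * x = 1) : g * x * g⁻¹ * (g * x * g⁻¹) = 1 := by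
  rw [show g * x * g⁻¹ * (g * x * g⁻¹) = g * (x * x) * g⁻¹ by group, hx, mul_one, mul_inv_cancel]

/-- An elementary subgroup of order sixteen spanned by `U` and a conjugate of `U`. -/
structure Plane (S : Sylow 2 G) (U E : Subgroup G) : Prop where
  le : E ≤ (S : Subgroup G)
  Ule : U ≤ E
  sq : ∀ x ∈ E, x * x = 1
  card : Nat.card E = 16
  gen : ∃ g : G, (∀ v ∈ U, g * v * g⁻¹ ∈ E) ∧ ∀ v ∈ U, g * v * g⁻¹ ∈ U → v = 1

theorem Plane.comm (hE : Plane S U E) {x y : G} (hx : x ∈ E) (hy : y ∈ E) : x * y = y * x :=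
  comm_of_sq hE.sq hx hy

theorem Plane.eq_of_le (hE : Plane S U E) (hF : Plane S U F) (h : E ≤ F) : E = F :=
  Subgroup.eq_of_le_of_card_ge h (by rw [hE.card, hF.card])

theorem exists_plane (h : Hyp S U) {g : G} (hg : ∀ v ∈ U, g * v * g⁻¹ ∈ (S : Subgroup G)) {v₀ : G}
    (hv₀ : v₀ ∈ U) (hne : g * v₀ * g⁻¹ ∉ U) :
    ∃ E, Plane S U E ∧ ∀ v ∈ U, g * v * g⁻¹ ∈ E := by
  have hd : ∀ v ∈ U, g * v * g⁻¹ ∈ U → v = 1 := fun v hv hvU => by
    by_contra h1
    exact hne (h.meet hg hv h1 hvU hv₀)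
  let U' : Subgroup G := U.map (MulAut.conj g).toMonoidHom
  have hU' : ∀ x ∈ U', ∃ v ∈ U, x = g * v * g⁻¹ := by rintro _ ⟨v, hv, rfl⟩; exact ⟨v, hv, rfl⟩
  have hU'S : U' ≤ (S : Subgroup G) := fun x hx => by
    obtain ⟨v, hv, rfl⟩ := hU' x hx; exact hg v hv
  have hcomm : ∀ a ∈ U, ∀ b ∈ U', a * b = b * a := fun a ha b hb => h.central a ha b (hU'S hb)
  have hsq : ∀ x ∈ U', x * x = 1 := fun x hx => by
    obtain ⟨v, hv, rfl⟩ := hU' x hx; exact conj_sq g (h.sq v hv)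
  have hdis : ∀ x ∈ U, x ∈ U' → x = 1 := fun x hx hx' => by
    obtain ⟨v, hv, rfl⟩ := hU' x hx'
    rw [hd v hv hx, mul_one, mul_inv_cancel]
  have hcard : Nat.card (prodSub U U' hcomm) = 16 := by
    rw [card_prodSub hdis, h.card]
    show 4 * Nat.card (U.map (MulAut.conj g).toMonoidHom) = 16
    rw [Subgroup.card_map_of_injective (MulAut.conj g).injective, h.card]
  refine ⟨prodSub U U' hcomm, ⟨?_, left_le_prodSub, prodSub_sq h.sq hsq, hcard,
    g, fun v hv => right_le_prodSub ⟨v, hv, rfl⟩, hd⟩, fun v hv => right_le_prodSub ⟨v, hv, rfl⟩⟩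
  rintro _ ⟨a, ha, b, hb, rfl⟩
  exact mul_mem (h.le ha) (hU'S hb)

/-- The decomposition along `U` and the conjugate. -/
theorem Plane.split (h : Hyp S U) (hE : Plane S U E) {g : G} (hg : ∀ v ∈ U, g * v * g⁻¹ ∈ E)
    (hd : ∀ v ∈ U, g * v * g⁻¹ ∈ U → v = 1) {x : G} (hx : x ∈ E) :
    ∃ a ∈ U, ∃ v ∈ U, x = a * (g * v * g⁻¹) := by
  classical
  let f : U × U → E := fun q => ⟨q.1.1 * (g * q.2.1 * g⁻¹), E.mul_mem (hE.Ule q.1.2) (hg _ q.2.2)⟩
  have hinj : Function.Injective f := by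
    rintro ⟨⟨a, ha⟩, ⟨v, hv⟩⟩ ⟨⟨a', ha'⟩, ⟨v', hv'⟩⟩ e
    have e' : a * (g * v * g⁻¹) = a' * (g * v' * g⁻¹) := congrArg Subtype.val e
    have h1 : g * (v' * v⁻¹) * g⁻¹ = a'⁻¹ * a := by
      rw [show g * (v' * v⁻¹) * g⁻¹ = a'⁻¹ * (a' * (g * v' * g⁻¹)) * (g * v⁻¹ * g⁻¹) by group, ← e']
      group
    have h2 := hd _ (U.mul_mem hv' (U.inv_mem hv)) (h1 ▸ U.mul_mem (U.inv_mem ha') ha)
    rw [mul_inv_eq_one] at h2
    subst h2
    exact Prod.ext (Subtype.ext (mul_right_cancel e')) rfl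
  have hbij := hinj.bijective_of_nat_card_le (by rw [Nat.card_prod, hE.card, h.card])
  obtain ⟨⟨⟨a, ha⟩, ⟨v, hv⟩⟩, e⟩ := hbij.2 ⟨x, hx⟩
  exact ⟨a, ha, v, hv, (congrArg Subtype.val e).symm⟩

/-- An element of `S` centralising an element of `E` outside `U` centralises `E`. -/
theorem Plane.fix (h : Hyp S U) (hE : Plane S U E) {x s : G} (hx : x ∈ E) (hxU : x ∉ U)
    (hs : s ∈ (S : Subgroup G)) (hsx : s * x = x * s) : ∀ y ∈ E, s * y = y * s := by
  obtain ⟨g, hg, hd⟩ := hE.gen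
  obtain ⟨a, ha, w, hw, rfl⟩ := hE.split h hg hd hx
  have hw1 : w ≠ 1 := by
    rintro rfl
    exact hxU (by rwa [mul_one, mul_inv_cancel, mul_one])
  have hsa : Commute s a := (h.central a ha s hs).symm
  have hsw : Commute s (g * w * g⁻¹) := by
    have := (hsa.inv_right).mul_right (show Commute s (a * (g * w * g⁻¹)) from hsx)
    rwa [inv_mul_cancel_left] at this
  intro y hy
  obtain ⟨b, hb, v, hv, rfl⟩ := hE.split h hg hd hy
  exact ((show Commute s b from (h.central b hb s hs).symm).mul_right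
    (show Commute s (g * v * g⁻¹) from (h.fix_all (fun v hv => hE.le (hg v hv)) hw hw1 hs hsw.eq v hv).symm)).eq

/-- A conjugate of a plane by an element fixing `U`. -/
theorem Plane.map (h : Hyp S U) (hE : Plane S U E) {r : G} (hr : ∀ x ∈ E, r * x * r⁻¹ ∈ (S : Subgroup G))
    (hrU : ∀ v ∈ U, r * v * r⁻¹ ∈ U) : Plane S U (E.map (MulAut.conj r).toMonoidHom) := by
  have hU : ∀ v ∈ U, ∃ v' ∈ U, r * v' * r⁻¹ = v := fun v hv => by
    have hinj : Function.Injective (fun x : U => (⟨r * x.1 * r⁻¹, hrU _ x.2⟩ : U)) := fun a b e =>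
      Subtype.ext (mul_left_cancel (mul_right_cancel (congrArg Subtype.val e)))
    obtain ⟨w, hw⟩ := (Finite.injective_iff_surjective.1 hinj) ⟨v, hv⟩
    exact ⟨w, w.2, congrArg Subtype.val hw⟩
  obtain ⟨g, hg, hd⟩ := hE.gen
  refine ⟨?_, fun v hv => ?_, ?_, ?_, r * g, fun v hv => ?_, fun v hv hvU => ?_⟩
  · rintro _ ⟨x, hx, rfl⟩; exact hr x hx
  · obtain ⟨v', hv', rfl⟩ := hU v hv
    exact ⟨v', hE.Ule hv', rfl⟩
  · rintro _ ⟨x, hx, rfl⟩; exact conj_sq r (hE.sq x hx)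
  · rw [Subgroup.card_map_of_injective (MulAut.conj r).injective, hE.card]
  · exact ⟨_, hg v hv, by show r * (g * v * g⁻¹) * r⁻¹ = _; group⟩
  · obtain ⟨v', hv', e⟩ := hU _ hvU
    refine hd v hv ?_
    rw [show g * v * g⁻¹ = v' from mul_left_cancel (mul_right_cancel (a := r * (g * v * g⁻¹)) (b := r⁻¹) (by
      rw [e]; group))]
    exact hv'

/-- A class modulo `U` in `E` fixed by a two-element. -/
theorem exists_fixed (h : Hyp S U) (hE : Plane S U E) : ∀ (k : ℕ) (t : G), t ∈ (S : Subgroup G) →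
    (∀ x ∈ E, t * x * t⁻¹ ∈ E) → t ^ 2 ^ k = 1 → ∃ x ∈ E, x ∉ U ∧ t * x * t⁻¹ * x⁻¹ ∈ U := by
  intro k
  induction k with
  | zero =>
    intro t ht hn h1
    obtain ⟨g, hg, hd⟩ := hE.gen
    obtain ⟨v, hv, hv1⟩ : ∃ v ∈ U, v ≠ 1 := by
      by_contra hno
      push Not at hno
      have h4 := h.card
      rw [(Subgroup.eq_bot_iff_forall U).2 hno, Subgroup.card_bot] at h4
      norm_num at h4
    rw [pow_zero, pow_one] at h1
    exact ⟨_, hg v hv, fun hU => hv1 (hd v hv hU), by rw [h1]; simp⟩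
  | succ k ih =>
    intro t ht hn h1
    obtain ⟨x, hx, hxU, hfx⟩ := ih (t ^ 2) (pow_mem ht 2) (fun x hx => by
      rw [pow_two, show t * t * x * (t * t)⁻¹ = t * (t * x * t⁻¹) * t⁻¹ by group]
      exact hn _ (hn x hx)) (by rw [← pow_mul, ← pow_succ']; exact h1)
    by_cases hy : t * x * t⁻¹ * x⁻¹ ∈ U
    · exact ⟨x, hx, hxU, hy⟩
    set y := t * x * t⁻¹ * x⁻¹ with hydef
    have hyE : y ∈ E := mul_mem (hn x hx) (inv_mem hx)
    refine ⟨y, hyE, hy, ?_⟩
    set a := t ^ 2 * x * (t ^ 2)⁻¹ * x⁻¹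
    have e : t * y * t⁻¹ * y⁻¹ = a * (x * (t * x⁻¹ * t⁻¹) * x * (t * x⁻¹ * t⁻¹)) := by
      rw [hydef]; simp only [a, pow_two]; group
    have hb : t * x⁻¹ * t⁻¹ ∈ E := hn _ (inv_mem hx)
    have hc : Commute x (t * x⁻¹ * t⁻¹) := hE.comm hx hb
    rw [e, show x * (t * x⁻¹ * t⁻¹) * x * (t * x⁻¹ * t⁻¹) =
      (x * (t * x⁻¹ * t⁻¹)) * (x * (t * x⁻¹ * t⁻¹)) by group, hE.sq _ (mul_mem hx hb), mul_one]
    exact hfx

/-- Two planes normalising each other. -/
structure Pair (S : Sylow 2 G) (U E F : Subgroup G) : Prop where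
  left : Plane S U E
  right : Plane S U F
  ne : E ≠ F
  norm_left : ∀ f ∈ F, ∀ e ∈ E, f * e * f⁻¹ ∈ E
  norm_right : ∀ e ∈ E, ∀ f ∈ F, e * f * e⁻¹ ∈ F

namespace Pair

variable (h : Hyp S U) (P : Pair S U E F)
include P

theorem symm : Pair S U F E := ⟨P.right, P.left, P.ne.symm, P.norm_right, P.norm_left⟩

include h

theorem not_central {f : G} (hf : f ∈ F) (hfU : f ∉ U) : ¬ ∀ e ∈ E, f * e = e * f := by
  intro hc
  by_cases hfE : f ∈ E
  · -- then `F` centralises `E`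
    have hF : ∀ f' ∈ F, ∀ e ∈ E, f' * e = e * f' := fun f' hf' =>
      P.left.fix h hfE hfU (P.right.le hf') (P.right.comm hf' hf)
    set A := prodSub E F fun e he f' hf' => (hF f' hf' e he).symm
    have hA : Nat.card A ≤ 16 := h.elem_le (by
      rintro _ ⟨a, ha, b, hb, rfl⟩; exact mul_mem (P.left.le ha) (P.right.le hb))
      (prodSub_sq P.left.sq P.right.sq)
    have e1 : E = A := Subgroup.eq_of_le_of_card_ge left_le_prodSub (by rw [P.left.card]; exact hA)
    exact P.ne ((P.right.eq_of_le P.left (by rw [e1]; exact right_le_prodSub)).symm)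
  · let C : Subgroup G := zpowers f
    have hC : ∀ a ∈ C, ∀ e ∈ E, e * a = a * e := by
      rintro _ ⟨i, rfl⟩ e he
      exact ((show Commute f e from hc e he).zpow_left i).symm.eq
    set A := prodSub E C fun e he a ha => hC a ha e he
    have hA : Nat.card A ≤ 16 := h.elem_le (by
      rintro _ ⟨a, ha, b, hb, rfl⟩
      exact mul_mem (P.left.le ha) ((zpowers_le.2 (P.right.le hf) : C ≤ (S : Subgroup G)) hb))
      (prodSub_sq P.left.sq fun b hb => P.right.sq b ((zpowers_le.2 hf : C ≤ F) hb))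
    have e1 : E = A := Subgroup.eq_of_le_of_card_ge left_le_prodSub (by rw [P.left.card]; exact hA)
    exact hfE (by rw [e1]; exact right_le_prodSub (mem_zpowers f))

theorem inter {x : G} (hE : x ∈ E) (hF : x ∈ F) : x ∈ U := by
  by_contra hU
  exact P.not_central h hF hU fun e he => P.left.comm hE he

theorem not_comm {e f : G} (he : e ∈ E) (heU : e ∉ U) (hf : f ∈ F) (hfU : f ∉ U) : e * f ≠ f * e :=
  fun hc => P.not_central h hf hfU (P.left.fix h he heU (P.right.le hf) hc.symm)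

theorem comm_mem {e f : G} (he : e ∈ E) (hf : f ∈ F) : e * f * e⁻¹ * f⁻¹ ∈ U := by
  refine P.inter h ?_ (mul_mem (P.norm_right e he f hf) (inv_mem hf))
  rw [show e * f * e⁻¹ * f⁻¹ = e * (f * e⁻¹ * f⁻¹) by group]
  exact mul_mem he (P.norm_left f hf _ (inv_mem he))

/-- Every element of `U` is a commutator with a given element outside `U`. -/
theorem exists_comm {f : G} (hf : f ∈ F) (hfU : f ∉ U) {v : G} (hv : v ∈ U) :
    ∃ e ∈ E, e * f * e⁻¹ * f⁻¹ = v := by
  obtain ⟨g, hg, hd⟩ := P.left.gen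
  let δ : U → U := fun w => ⟨_, P.comm_mem h (hg _ w.2) hf⟩
  have hinj : Function.Injective δ := fun a b hab => by
    have e1 : g * a.1 * g⁻¹ * f * (g * a.1 * g⁻¹)⁻¹ * f⁻¹ = g * b.1 * g⁻¹ * f * (g * b.1 * g⁻¹)⁻¹ * f⁻¹ :=
      congrArg Subtype.val hab
    by_contra hne
    set A := g * a.1 * g⁻¹
    set B := g * b.1 * g⁻¹
    have h1 : A * f * A⁻¹ = B * f * B⁻¹ := mul_right_cancel e1
    have hm : B⁻¹ * A ∉ U := fun hU => by
      rw [show B⁻¹ * A = g * (b.1⁻¹ * a.1) * g⁻¹ by simp only [A, B]; group] at hU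
      exact hne (Subtype.ext (inv_mul_eq_one.1 (hd _ (U.mul_mem (U.inv_mem b.2) a.2) hU)).symm)
    refine P.not_comm h (mul_mem (inv_mem (hg _ b.2)) (hg _ a.2)) hm hf hfU ?_
    calc B⁻¹ * A * f = B⁻¹ * (A * f * A⁻¹) * A := by group
      _ = B⁻¹ * (B * f * B⁻¹) * A := by rw [h1]
      _ = f * (B⁻¹ * A) := by group
  obtain ⟨w, hw⟩ := (Finite.injective_iff_surjective.1 hinj) ⟨v, hv⟩
  exact ⟨_, hg _ w.2, congrArg Subtype.val hw⟩

/-- The product `E F`. -/
def join : Subgroup G where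
  carrier := {x | ∃ e ∈ E, ∃ f ∈ F, x = e * f}
  one_mem' := ⟨1, E.one_mem, 1, F.one_mem, (one_mul 1).symm⟩
  mul_mem' := by
    rintro _ _ ⟨e, he, f, hf, rfl⟩ ⟨e', he', f', hf', rfl⟩
    exact ⟨e * (f * e' * f⁻¹), E.mul_mem he (P.norm_left f hf e' he'), f * f', F.mul_mem hf hf', by group⟩
  inv_mem' := by
    rintro _ ⟨e, he, f, hf, rfl⟩
    refine ⟨f⁻¹ * e⁻¹ * f, ?_, f⁻¹, F.inv_mem hf, by group⟩
    simpa using P.norm_left f⁻¹ (inv_mem hf) e⁻¹ (inv_mem he)

theorem mem_join {x : G} : x ∈ P.join ↔ ∃ e ∈ E, ∃ f ∈ F, x = e * f := Iff.rfl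

theorem left_le : E ≤ P.join := fun e he => ⟨e, he, 1, F.one_mem, (mul_one e).symm⟩

theorem right_le : F ≤ P.join := fun f hf => ⟨1, E.one_mem, f, hf, (one_mul f).symm⟩

theorem join_le : P.join ≤ (S : Subgroup G) := by
  rintro _ ⟨e, he, f, hf, rfl⟩
  exact mul_mem (P.left.le he) (P.right.le hf)

theorem sq_mem {x : G} (hx : x ∈ P.join) : x * x ∈ U := by
  obtain ⟨e, he, f, hf, rfl⟩ := hx
  have hm := P.comm_mem h he hf
  rw [inv_of_sq (P.left.sq e he), inv_of_sq (P.right.sq f hf)] at hm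
  rwa [show e * f * (e * f) = e * f * e * f by group]

theorem invol_mem {x : G} (hx : x ∈ P.join) (hx2 : x * x = 1) : x ∈ E ∨ x ∈ F := by
  obtain ⟨e, he, f, hf, rfl⟩ := hx
  by_cases heU : e ∈ U
  · exact Or.inr (mul_mem (P.right.Ule heU) hf)
  by_cases hfU : f ∈ U
  · exact Or.inl (mul_mem he (P.left.Ule hfU))
  refine absurd ?_ (P.not_comm h he heU hf hfU)
  calc e * f = (e * f)⁻¹ := (inv_of_sq hx2).symm
    _ = f * e := by rw [_root_.mul_inv_rev, inv_of_sq (P.left.sq e he), inv_of_sq (P.right.sq f hf)]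

theorem plane_in_join {H : Subgroup G} (hH : Plane S U H) (hle : H ≤ P.join) : H = E ∨ H = F := by
  by_contra hno
  push Not at hno
  obtain ⟨a, ha, haE⟩ : ∃ a ∈ H, a ∉ E := by
    by_contra hn; push Not at hn; exact hno.1 (hH.eq_of_le P.left hn)
  obtain ⟨b, hb, hbF⟩ : ∃ b ∈ H, b ∉ F := by
    by_contra hn; push Not at hn; exact hno.2 (hH.eq_of_le P.right hn)
  have haF : a ∈ F := (P.invol_mem h (hle ha) (hH.sq a ha)).resolve_left haE
  have hbE : b ∈ E := (P.invol_mem h (hle hb) (hH.sq b hb)).resolve_right hbF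
  rcases P.invol_mem h (hle (mul_mem ha hb)) (hH.sq _ (mul_mem ha hb)) with he | he
  · exact haE (by simpa using mul_mem he (inv_mem hbE))
  · exact hbF (by simpa using mul_mem (inv_mem haF) he)

/-- The order of the product. -/
theorem card_join : Nat.card (P.join) = 64 := by
  obtain ⟨g, hg, hd⟩ := P.right.gen
  let f : E × U → P.join := fun q =>
    ⟨q.1.1 * (g * q.2.1 * g⁻¹), _, q.1.2, _, hg _ q.2.2, rfl⟩
  have hf : Function.Bijective f := by
    constructor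
    · rintro ⟨⟨e, he⟩, ⟨v, hv⟩⟩ ⟨⟨e', he'⟩, ⟨v', hv'⟩⟩ hq
      have hq' : e * (g * v * g⁻¹) = e' * (g * v' * g⁻¹) := congrArg Subtype.val hq
      have h1 : g * (v' * v⁻¹) * g⁻¹ = e'⁻¹ * e := by
        rw [show g * (v' * v⁻¹) * g⁻¹ = e'⁻¹ * (e' * (g * v' * g⁻¹)) * (g * v⁻¹ * g⁻¹) by group, ← hq']
        group
      have h2 := hd _ (U.mul_mem hv' (U.inv_mem hv))
        (P.inter h (h1 ▸ E.mul_mem (E.inv_mem he') he) (hg _ (U.mul_mem hv' (U.inv_mem hv))))
      rw [mul_inv_eq_one] at h2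
      subst h2
      exact Prod.ext (Subtype.ext (mul_right_cancel hq')) rfl
    · rintro ⟨_, e, he, y, hy, rfl⟩
      obtain ⟨a, ha, v, hv, rfl⟩ := P.right.split h hg hd hy
      exact ⟨(⟨e * a, E.mul_mem he (P.left.Ule ha)⟩, ⟨v, hv⟩), Subtype.ext (mul_assoc _ _ _)⟩
  rw [← Nat.card_congr (Equiv.ofBijective f hf), Nat.card_prod, P.left.card, h.card]

/-- An element centralising both planes lies in `U`. -/
theorem cent_both {c : G} (hc : c ∈ (S : Subgroup G)) (hcE : ∀ e ∈ E, c * e = e * c)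
    (hcF : ∀ f ∈ F, c * f = f * c) : c ∈ U := by
  by_contra hcU
  obtain ⟨k, hk⟩ := S.2 ⟨c, hc⟩
  have hk' : c ^ 2 ^ k ∈ U := by
    rw [show c ^ 2 ^ k = 1 from congrArg Subtype.val hk]; exact U.one_mem
  classical
  let hex : ∃ n, c ^ 2 ^ n ∈ U := ⟨k, hk'⟩
  obtain ⟨m, hm⟩ : ∃ m, Nat.find hex = m + 1 := Nat.exists_eq_succ_of_ne_zero fun h0 => hcU (by
    have := Nat.find_spec hex; rwa [h0, pow_zero, pow_one] at this)
  set d := c ^ 2 ^ m
  have hdU : d ∉ U := Nat.find_min hex (by omega)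
  have hd2 : d * d ∈ U := by
    have := Nat.find_spec hex
    rwa [hm, pow_succ, pow_mul, pow_two] at this
  have hdE : ∀ e ∈ E, d * e = e * d := fun e he => ((show Commute c e from hcE e he).pow_left _).eq
  have hdF : ∀ f ∈ F, d * f = f * d := fun f hf => ((show Commute c f from hcF f hf).pow_left _).eq
  have hdJ : d ∉ P.join := fun hdJ => by
    obtain ⟨e, he, f, hf, hef⟩ := hdJ
    have hfU : f ∈ U := by
      by_contra hfU
      refine P.not_central h hf hfU fun y hy => ?_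
      have h1 : Commute (e⁻¹ * d) y :=
        ((show Commute e y from P.left.comm he hy).inv_left).mul_left (hdE y hy)
      rwa [hef, inv_mul_cancel_left] at h1
    have heU : e ∈ U := by
      by_contra heU
      refine P.symm.not_central h he heU fun y hy => ?_
      have h1 : Commute (d * f⁻¹) y :=
        (show Commute d y from hdF y hy).mul_left ((show Commute f y from P.right.comm hf hy).inv_left)
      rwa [hef, mul_inv_cancel_right] at h1
    exact hdU (hef ▸ mul_mem heU hfU)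
  have hdc : ∀ x ∈ P.join, ∀ a ∈ zpowers d, x * a = a * x := by
    rintro _ ⟨e, he, f, hf, rfl⟩ _ ⟨i, rfl⟩
    exact (((show Commute d e from hdE e he).mul_right (show Commute d f from hdF f hf)).zpow_left i).symm.eq
  set H := prodSub (P.join) (zpowers d) hdc
  have hdS : d ∈ (S : Subgroup G) := pow_mem hc _
  have hHS : H ≤ (S : Subgroup G) := by
    rintro _ ⟨a, ha, b, hb, rfl⟩
    exact mul_mem (P.join_le h ha) ((zpowers_le.2 hdS : zpowers d ≤ (S : Subgroup G)) hb)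
  have hUH : U ≤ H := fun v hv => left_le_prodSub (P.left_le h (P.left.Ule hv))
  have hle := h.section_le hHS hUH (fun a ha x hx => by
    rw [← h.central x hx a (hHS ha), mul_inv_cancel_right]; exact hx) (by
    rintro _ ⟨a, ha, b, hb, rfl⟩
    obtain ⟨i, rfl⟩ := hb
    rw [(show Commute (d ^ i) a from (hdc a ha _ ⟨i, rfl⟩).symm).mul_mul_mul_comm a (d ^ i)]
    refine mul_mem (P.sq_mem h ha) ?_
    rw [← (Commute.refl d).mul_zpow]
    exact zpow_mem hd2 i)
  rw [h.card] at hle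
  have hlt : P.join < H := lt_of_le_of_ne left_le_prodSub fun e1 =>
    hdJ (e1 ▸ right_le_prodSub (mem_zpowers d))
  obtain ⟨q, hq⟩ := Subgroup.card_dvd_of_le hlt.le
  rw [P.card_join h] at hq
  have : Nat.card H ≠ 64 := fun e1 => hlt.ne (Subgroup.eq_of_le_of_card_ge hlt.le (by rw [e1, P.card_join h]))
  have := Nat.card_pos (α := H)
  omega

/-- An element normalising the second plane and centralising the first lies in the first. -/
theorem cent_left {a : G} (ha : a ∈ (S : Subgroup G)) (haE : ∀ e ∈ E, a * e = e * a)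
    (haF : ∀ f ∈ F, a * f * a⁻¹ ∈ F) : a ∈ E := by
  obtain ⟨g, hg, hd⟩ := P.right.gen
  obtain ⟨w, hw, hw1⟩ : ∃ w ∈ U, w ≠ 1 := by
    by_contra hno
    push Not at hno
    have h4 := h.card
    rw [(Subgroup.eq_bot_iff_forall U).2 hno, Subgroup.card_bot] at h4
    norm_num at h4
  set y := g * w * g⁻¹
  have hy : y ∈ F := hg w hw
  have hyU : y ∉ U := fun hU => hw1 (hd w hw hU)
  have hm : a * y * a⁻¹ * y⁻¹ ∈ U := by
    by_contra hmU
    refine P.not_central h (mul_mem (haF y hy) (inv_mem hy)) hmU fun e he => ?_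
    have he' : y⁻¹ * e * y ∈ E := by simpa using P.norm_left y⁻¹ (inv_mem hy) e he
    calc a * y * a⁻¹ * y⁻¹ * e = a * y * a⁻¹ * (y⁻¹ * e * y) * y⁻¹ := by group
      _ = a * y * (a⁻¹ * (y⁻¹ * e * y) * a) * a⁻¹ * y⁻¹ := by group
      _ = a * y * (y⁻¹ * e * y) * a⁻¹ * y⁻¹ := by
        rw [mul_assoc a⁻¹, ← haE _ he', inv_mul_cancel_left]
      _ = a * e * (y * a⁻¹ * y⁻¹) := by group
      _ = e * (a * y * a⁻¹ * y⁻¹) := by rw [haE e he]; group
  obtain ⟨e, he, hev⟩ := P.exists_comm h hy hyU hm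
  have hfix : e⁻¹ * a * y = y * (e⁻¹ * a) := by
    have h1 : e * y * e⁻¹ = a * y * a⁻¹ := mul_right_cancel hev
    calc e⁻¹ * a * y = e⁻¹ * (a * y * a⁻¹) * a := by group
      _ = e⁻¹ * (e * y * e⁻¹) * a := by rw [h1]
      _ = y * (e⁻¹ * a) := by group
  have hS : e⁻¹ * a ∈ (S : Subgroup G) := mul_mem (inv_mem (P.left.le he)) ha
  have := P.cent_both h hS (fun x hx => ((show Commute e x from P.left.comm he hx).inv_left.mul_left
    (show Commute a x from haE x hx)).eq) (P.right.fix h hy hyU hS hfix)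
  simpa using mul_mem he (P.left.Ule this)

/-- An element normalising both planes lies in their product. -/
theorem norm_both {t : G} (ht : t ∈ (S : Subgroup G)) (htE : ∀ e ∈ E, t * e * t⁻¹ ∈ E)
    (htF : ∀ f ∈ F, t * f * t⁻¹ ∈ F) : t ∈ P.join := by
  obtain ⟨k, hk⟩ := S.2 ⟨t, ht⟩
  obtain ⟨x, hx, hxU, hfx⟩ := exists_fixed h P.left k t ht htE (congrArg Subtype.val hk)
  obtain ⟨f, hf, hfv⟩ := P.symm.exists_comm h hx hxU hfx
  have h1 : f * x * f⁻¹ = t * x * t⁻¹ := mul_right_cancel hfv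
  have hfix : f⁻¹ * t * x = x * (f⁻¹ * t) := by
    calc f⁻¹ * t * x = f⁻¹ * (t * x * t⁻¹) * t := by group
      _ = f⁻¹ * (f * x * f⁻¹) * t := by rw [h1]
      _ = x * (f⁻¹ * t) := by group
  have hS : f⁻¹ * t ∈ (S : Subgroup G) := mul_mem (inv_mem (P.right.le hf)) ht
  have := P.cent_left h hS (P.left.fix h hx hxU hS hfix) fun y hy => by
    rw [show f⁻¹ * t * y * (f⁻¹ * t)⁻¹ = f⁻¹ * (t * y * t⁻¹) * f by group]
    exact mul_mem (mul_mem (inv_mem hf) (htF y hy)) hf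
  simpa using mul_mem (P.right_le h hf) (P.left_le h this)

end Pair

end CfsgLib.NoEightConstrained.CentralFour
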